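import Cfsg.Agent.MaxSub.Alt
import Cfsg.Agent.MaxSub.Orth

/-!
The normaliser of a self-adjoint quadratic extension field is maximal in `Sp(4, q)`, `q` odd
(helper17; the argument follows `Sp4Geo/Field.lean` of helper98, with a trace-zero generator).
-/

set_option autoImplicit false

namespace Cfsg.Agent.Sp4Odd.FieldExt

open Matrix Cfsg.Agent.MaxSub

variable {ι : Type} [Fintype ι] [DecidableEq ι] {F : Type*} [Field F]
variable {f : (ι → F) → (ι → F) → F}

/-- A trace-zero generator of a quadratic extension field, self-adjoint for `f`. -/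
structure QuadGen (f : (ι → F) → (ι → F) → F) (w : Matrix ι ι F) (ν : F) : Prop where
  sq : ∀ x, w *ᵥ (w *ᵥ x) = ν • x
  irred : ∀ t : F, t ^ 2 ≠ ν
  adj : ∀ x y, f (w *ᵥ x) y = f x (w *ᵥ y)
  alt : ∀ x, f (w *ᵥ x) x = 0

/-- The short root element `x ↦ x + k (f(x,b) a + f(x,a) b)` of an orthogonal pair. -/
noncomputable def shortRoot (f : (ι → F) → (ι → F) → F) (a b : ι → F) (k : F) : GL ι F :=
  st f (a + b) k * st f a (-k) * st f b (-k)

/-- Root elements commuting with the extension field. -/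
noncomputable def kU (f : (ι → F) → (ι → F) → F) (w : Matrix ι ι F) (ν : F) (v : ι → F) (s t : F) :
    GL ι F :=
  st f v (s * ν) * st f (w *ᵥ v) s * shortRoot f v (w *ᵥ v) t

/-- The line over the extension field through `v`. -/
def kLine (w : Matrix ι ι F) (v : ι → F) : Submodule F (ι → F) := Submodule.span F {v, w *ᵥ v}

variable {w : Matrix ι ι F} {ν : F}
variable (hf : Geo.IsSymplecticForm f)
include hf

theorem shortRoot_mulVec {a b : ι → F} (hab : f a b = 0) (k : F) (x : ι → F) :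
    (shortRoot f a b k : Matrix ι ι F) *ᵥ x = x + (k * f x b) • a + (k * f x a) • b := by
  have hba : f b a = 0 := by rw [hf.skew b a, hab, neg_zero]
  rw [shortRoot, Units.val_mul, Units.val_mul, ← mulVec_mulVec, ← mulVec_mulVec, st_mulVec hf,
    st_mulVec hf, st_mulVec hf]
  simp only [hf.bilinear.add_left, hf.bilinear.add_right, hf.bilinear.smul_left, hf.alternating,
    hab, hba]
  module

theorem shortRoot_mem_isom (a b : ι → F) (k : F) : shortRoot f a b k ∈ isom f :=
  mul_mem (mul_mem (st_mem_isom hf _ _) (st_mem_isom hf _ _)) (st_mem_isom hf _ _)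

theorem shortRoot_conj {g : GL ι F} (hg : g ∈ isom f) (a b : ι → F) (k : F) :
    g * shortRoot f a b k * g⁻¹ =
      shortRoot f ((g : Matrix ι ι F) *ᵥ a) ((g : Matrix ι ι F) *ᵥ b) k := by
  have h : ∀ x y z : GL ι F, g * (x * y * z) * g⁻¹ = g * x * g⁻¹ * (g * y * g⁻¹) * (g * z * g⁻¹) :=
    fun x y z => by group
  rw [shortRoot, h, st_conj hf hg, st_conj hf hg, st_conj hf hg, mulVec_add, shortRoot]

/-- The commutator of two short root elements through `a` is a transvection. -/
theorem shortRoot_comm {a b d : ι → F} (hab : f a b = 0) (had : f a d = 0) (k l : F) :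
    shortRoot f a b k * shortRoot f a d l =
      st f a (2 * k * l * f d b) * (shortRoot f a d l * shortRoot f a b k) := by
  have hba : f b a = 0 := by rw [hf.skew b a, hab, neg_zero]
  have hda : f d a = 0 := by rw [hf.skew d a, had, neg_zero]
  refine gl_ext fun x => ?_
  simp only [Units.val_mul, ← mulVec_mulVec, st_mulVec hf, shortRoot_mulVec hf hab,
    shortRoot_mulVec hf had, hf.bilinear.add_left, hf.bilinear.smul_left, hf.alternating,
    hba, hda, hab, had, hf.skew b d]
  module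

variable (hw : QuadGen f w ν)
include hw

theorem form_v_wv (v : ι → F) : f v (w *ᵥ v) = 0 := by rw [hf.skew v, hw.alt, neg_zero]

theorem kU_mulVec (v x : ι → F) (s t : F) :
    (kU f w ν v s t : Matrix ι ι F) *ᵥ x =
      x + (s * ν * f x v + t * f x (w *ᵥ v)) • v +
        (t * f x v + s * f x (w *ᵥ v)) • (w *ᵥ v) := by
  have h1 := form_v_wv hf hw v
  have h2 : f (w *ᵥ v) v = 0 := hw.alt v
  simp only [kU, Units.val_mul, ← mulVec_mulVec, st_mulVec hf, shortRoot_mulVec hf h1,
    hf.bilinear.add_left, hf.bilinear.smul_left, hf.alternating, h1, h2]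
  module

theorem kU_mem_isom (v : ι → F) (s t : F) : kU f w ν v s t ∈ isom f :=
  mul_mem (mul_mem (st_mem_isom hf _ _) (st_mem_isom hf _ _)) (shortRoot_mem_isom hf _ _ _)

theorem kU_comm (v : ι → F) (s t : F) (x : ι → F) :
    (kU f w ν v s t : Matrix ι ι F) *ᵥ (w *ᵥ x) =
      w *ᵥ ((kU f w ν v s t : Matrix ι ι F) *ᵥ x) := by
  rw [kU_mulVec hf hw, kU_mulVec hf hw, mulVec_add, mulVec_add, mulVec_smul, mulVec_smul, hw.sq,
    hw.adj x v, hw.adj x (w *ᵥ v), hw.sq, hf.bilinear.smul_right]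
  module

theorem shortRoot_eq_kU (v : ι → F) (t : F) : shortRoot f v (w *ᵥ v) t = kU f w ν v 0 t := by
  refine gl_ext fun x => ?_
  rw [kU_mulVec hf hw, shortRoot_mulVec hf (form_v_wv hf hw v)]
  module

/-- The group generated by the root elements is transitive on non-zero vectors. -/
theorem exists_kU_move {M : Subgroup (GL ι F)} (hM : ∀ v s t, kU f w ν v s t ∈ M) {u z : ι → F}
    (hu : u ≠ 0) (hz : z ≠ 0) :
    ∃ g ∈ M, g ∈ isom f ∧ (∀ x, (g : Matrix ι ι F) *ᵥ (w *ᵥ x) = w *ᵥ ((g : Matrix ι ι F) *ᵥ x)) ∧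
      (g : Matrix ι ι F) *ᵥ u = z := by
  have step : ∀ u z : ι → F, f u z ≠ 0 →
      ∃ g ∈ M, g ∈ isom f ∧
        (∀ x, (g : Matrix ι ι F) *ᵥ (w *ᵥ x) = w *ᵥ ((g : Matrix ι ι F) *ᵥ x)) ∧
        (g : Matrix ι ι F) *ᵥ u = z := by
    intro u z hne
    set φ := f u (z - u) with hφ
    set χ := f u (w *ᵥ (z - u)) with hχ
    have hφ0 : φ ≠ 0 := by rwa [hφ, form_sub_right hf.bilinear, hf.alternating, sub_zero]
    set D := ν * φ ^ 2 - χ ^ 2 with hD
    have hD0 : D ≠ 0 := fun h => hw.irred (χ / φ) (by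
      field_simp
      linear_combination -h)
    refine ⟨_, hM (z - u) (φ / D) (-χ / D), kU_mem_isom hf hw _ _ _, kU_comm hf hw _ _ _, ?_⟩
    rw [kU_mulVec hf hw, ← hφ, ← hχ]
    have e1 : φ / D * ν * φ + -χ / D * χ = 1 := by
      field_simp
      linear_combination -hD
    have e2 : -χ / D * φ + φ / D * χ = 0 := by ring
    rw [e1, e2, one_smul, zero_smul, add_zero, add_sub_cancel]
  obtain ⟨m, -, h1, h3⟩ := exists_form_ne_zero_ne_zero hf (W := ⊤)
    (a := u) (b := z) (by simpa using (hf.nondegenerate u hu).2)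
    (by simpa using (hf.nondegenerate z hz).1)
  obtain ⟨g, hg, hgi, hgc, hgu⟩ := step u m h1
  obtain ⟨g', hg', hgi', hgc', hgu'⟩ := step m z h3
  exact ⟨g' * g, mul_mem hg' hg, mul_mem hgi' hgi,
    fun x => by simp only [Units.val_mul, ← mulVec_mulVec, hgc, hgc'],
    by rw [Units.val_mul, ← mulVec_mulVec, hgu, hgu']⟩

omit [DecidableEq ι] hf hw in
theorem self_mem_kLine (v : ι → F) : v ∈ kLine w v := Submodule.subset_span (by simp)

theorem indep_pair {v : ι → F} (hv : v ≠ 0) : LinearIndependent F ![v, w *ᵥ v] := by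
  rw [LinearIndependent.pair_iff' hv]
  intro a ha
  have h := hw.sq v
  rw [← ha, mulVec_smul, ← ha, smul_smul, ← sub_eq_zero, ← sub_smul] at h
  exact hw.irred a (by linear_combination (smul_eq_zero.mp h).resolve_right hv)

variable [Finite F] (hcard : Fintype.card ι = 4)
include hcard

theorem kLine_eq_orth {v : ι → F} (hv : v ≠ 0) :
    orth hf.bilinear (kLine w v) = kLine w v := by
  have h1 : Module.finrank F (kLine w v) = 2 := by
    have := finrank_span_eq_card (indep_pair hf hw hv)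
    rw [Matrix.range_cons, Matrix.range_cons, Matrix.range_empty, Set.union_empty,
      Set.singleton_union, Fintype.card_fin] at this
    exact this
  have h2 := finrank_orth hf.bilinear hf.nondegenerate (kLine w v)
  refine (Submodule.eq_of_le_of_finrank_eq ?_ (by omega)).symm
  rw [kLine, Submodule.span_le]
  intro a ha
  refine mem_orth.mpr fun b hb => ?_
  obtain ⟨c, d, rfl⟩ := Submodule.mem_span_pair.mp hb
  rw [hf.bilinear.add_right, hf.bilinear.smul_right, hf.bilinear.smul_right]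
  rcases ha with rfl | rfl
  · rw [hf.alternating, form_v_wv hf hw]; ring
  · rw [hf.alternating, hw.alt]; ring

/-- Something fixing `v` and moving its field line yields all transvections. -/
theorem full_of_move (h2 : (2 : F) ≠ 0) {M : Subgroup (GL ι F)}
    (hM : ∀ v s t, kU f w ν v s t ∈ M) {h : GL ι F}
    (hh : h ∈ M) (hhi : h ∈ isom f) {v : ι → F} (hv : v ≠ 0)
    (hfix : (h : Matrix ι ι F) *ᵥ v = v)
    (hout : (h : Matrix ι ι F) *ᵥ (w *ᵥ v) ∉ kLine w v) : isom f ≤ M := by
  have hvw := form_v_wv hf hw v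
  set y := (h : Matrix ι ι F) *ᵥ (w *ᵥ v) with hy
  have hvy : f v y = 0 := by
    rw [hy, ← hvw, ← mem_isom.mp hhi v (w *ᵥ v), hfix]
  have hyv : f y v = 0 := by rw [hf.skew, hvy, neg_zero]
  set lam := f y (w *ᵥ v) with hlam
  have hlam0 : lam ≠ 0 := by
    intro h0
    refine hout ?_
    rw [← kLine_eq_orth hf hw hcard hv]
    refine mem_orth.mpr fun b hb => ?_
    obtain ⟨c, e, rfl⟩ := Submodule.mem_span_pair.mp hb
    rw [hf.bilinear.add_right, hf.bilinear.smul_right, hf.bilinear.smul_right, hyv, ← hlam, h0]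
    ring
  -- short root elements towards `y`
  have hS : ∀ l, shortRoot f v y l ∈ M := by
    intro l
    have h1 := mul_mem (mul_mem hh (hM v 0 l)) (inv_mem hh)
    rwa [← shortRoot_eq_kU hf hw, shortRoot_conj hf hhi, hfix] at h1
  -- long root elements
  have hT : ∀ c : F, st f v c ∈ M := by
    intro c
    have hS0 : shortRoot f v (w *ᵥ v) 1 ∈ M := shortRoot_eq_kU hf hw v 1 ▸ hM v 0 1
    have hS1 := hS (c / (2 * lam))
    have := mul_mem (mul_mem hS0 hS1) (inv_mem (mul_mem hS1 hS0))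
    rw [shortRoot_comm hf hvw hvy, ← hlam, mul_assoc, mul_inv_cancel, mul_one] at this
    convert this using 2
    field_simp
  refine isom_le_of_st_mem hf fun z c => ?_
  by_cases hz : z = 0
  · rw [st, hz, tv_zero_left]; exact one_mem M
  obtain ⟨k, hk, hki, -, hkv⟩ := exists_kU_move hf hw hM hv hz
  exact hkv ▸ st_conj hf hki v c ▸ mul_mem (mul_mem hk (hT c)) (inv_mem hk)

end Cfsg.Agent.Sp4Odd.FieldExt

namespace Cfsg.Agent.Sp4Odd.FieldExt

open Matrix Cfsg.Agent.MaxSub

variable {ι : Type} [Fintype ι] [DecidableEq ι] {F : Type*} [Field F] [Finite F]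
variable {f : (ι → F) → (ι → F) → F} {K : Subalgebra F (Matrix ι ι F)}

theorem exists_quadGen [Nonempty ι] (h2 : (2 : F) ≠ 0) (hK : Geo.IsFieldSubalgebra 2 K)
    (hsa : Geo.IsSelfAdjointFor f K) (halt : ∀ k ∈ K, ∀ v, f (k *ᵥ v) v = 0) :
    ∃ w ν, QuadGen f w ν ∧ w ∈ K ∧
      ∀ k ∈ K, ∃ a b : F, k = a • (1 : Matrix ι ι F) + b • w := by
  obtain ⟨u, huK, hu⟩ : ∃ u ∈ K, ∀ a : F, a • (1 : Matrix ι ι F) ≠ u := by
    by_contra hc
    push Not at hc
    have h1 : Module.finrank F K ≤ 1 := finrank_le_one ⟨1, one_mem K⟩ fun k => by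
      obtain ⟨a, ha⟩ := hc k.1 k.2
      exact ⟨a, Subtype.ext ha⟩
    rw [hK.finrank_eq] at h1
    omega
  have hli : LinearIndependent F ![(⟨1, one_mem K⟩ : K), ⟨u, huK⟩] := by
    rw [LinearIndependent.pair_iff' (fun h => one_ne_zero (congrArg Subtype.val h))]
    intro a ha
    exact hu a (congrArg Subtype.val ha)
  have hspan : ∀ k ∈ K, ∃ a b : F, k = a • (1 : Matrix ι ι F) + b • u := by
    intro k hk
    have htop := hli.span_eq_top_of_card_eq_finrank (by simp [hK.finrank_eq])
    rw [Matrix.range_cons, Matrix.range_cons, Matrix.range_empty, Set.union_empty,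
      Set.singleton_union] at htop
    obtain ⟨a, b, hab⟩ := Submodule.mem_span_pair.mp
      (show (⟨k, hk⟩ : K) ∈ Submodule.span F _ from htop ▸ Submodule.mem_top)
    exact ⟨a, b, (congrArg Subtype.val hab).symm⟩
  obtain ⟨α, β, hsq⟩ := hspan (u * u) (mul_mem huK huK)
  obtain ⟨c, rfl⟩ : ∃ c, β = c + c := ⟨β / 2, by field_simp; ring⟩
  have hsm : ∀ a : F, a • (1 : Matrix ι ι F) ∈ K := fun a => K.smul_mem (one_mem K) a
  set w := u - c • (1 : Matrix ι ι F) with hwdef
  have hwK : w ∈ K := sub_mem huK (hsm c)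
  have hw : ∀ a : F, a • (1 : Matrix ι ι F) ≠ w := fun a h => hu (a + c) (by
    rw [add_smul, h, hwdef, sub_add_cancel])
  have hww : w * w = (α + c * c) • (1 : Matrix ι ι F) := by
    simp only [hwdef, sub_mul, mul_sub, Matrix.smul_mul, Matrix.mul_smul, one_mul, mul_one,
      smul_smul, hsq]
    module
  refine ⟨w, α + c * c, ⟨fun x => ?_, fun t ht => ?_, hsa w hwK, halt w hwK⟩, hwK, fun k hk => ?_⟩
  · rw [mulVec_mulVec, hww, smul_mulVec, one_mulVec]
  · -- a root would give a zero divisor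
    have hP0 : w - t • (1 : Matrix ι ι F) ≠ 0 := fun h => hw t (sub_eq_zero.mp h).symm
    have hQ0 : w + t • (1 : Matrix ι ι F) ≠ 0 := fun h =>
      hw (-t) (by rw [neg_smul, ← eq_neg_of_add_eq_zero_left h])
    have hPQ : (w - t • (1 : Matrix ι ι F)) * (w + t • (1 : Matrix ι ι F)) = 0 := by
      simp only [sub_mul, mul_add, Matrix.smul_mul, Matrix.mul_smul, one_mul, mul_one, smul_smul,
        hww, ← ht]
      module
    obtain ⟨y, -, hy⟩ := hK.inv _ (sub_mem hwK (hsm t)) hP0
    exact hQ0 (by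
      calc w + t • (1 : Matrix ι ι F) = 1 * (w + t • (1 : Matrix ι ι F)) := (one_mul _).symm
      _ = y * (w - t • (1 : Matrix ι ι F)) * (w + t • (1 : Matrix ι ι F)) := by
        rw [mul_eq_one_comm.mp hy]
      _ = 0 := by rw [mul_assoc, hPQ, mul_zero])
  · obtain ⟨a, b, rfl⟩ := hspan k hk
    exact ⟨a + b * c, b, by rw [hwdef]; module⟩

/-- The normaliser of the field is maximal. -/
theorem field_maximal' (hf : Geo.IsSymplecticForm f) (hcard : Fintype.card ι = 4)
    (h2 : (2 : F) ≠ 0) (hK : Geo.IsFieldSubalgebra 2 K) (hsa : Geo.IsSelfAdjointFor f K)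
    (halt : ∀ k ∈ K, ∀ v, f (k *ᵥ v) v = 0) :
    Geo.IsMaximalIn (isom f) (Geo.subalgebraNormalizer K ⊓ isom f) := by
  have : Nonempty ι := Fintype.card_pos_iff.mp (by omega)
  obtain ⟨w, ν, hw, hwK, hspan⟩ := exists_quadGen h2 hK hsa halt
  have hkline : ∀ k ∈ K, ∀ x, k *ᵥ x ∈ kLine w x := by
    intro k hk x
    obtain ⟨a, b, rfl⟩ := hspan k hk
    rw [add_mulVec, smul_mulVec, smul_mulVec, one_mulVec]
    exact Submodule.mem_span_pair.mpr ⟨a, b, rfl⟩
  have hlineK : ∀ x y, y ∈ kLine w x → ∃ k ∈ K, k *ᵥ x = y := by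
    intro x y hy
    obtain ⟨a, b, rfl⟩ := Submodule.mem_span_pair.mp hy
    exact ⟨a • (1 : Matrix ι ι F) + b • w, add_mem (K.smul_mem (one_mem K) a) (K.smul_mem hwK b),
      by rw [add_mulVec, smul_mulVec, smul_mulVec, one_mulVec]⟩
  have hUmem : ∀ v s t, kU f w ν v s t ∈ Geo.subalgebraNormalizer K ⊓ isom f := by
    intro v s t
    refine ⟨fun k => ?_, kU_mem_isom hf hw v s t⟩
    set g := kU f w ν v s t with hg
    have hcw : (g : Matrix ι ι F) * w = w * (g : Matrix ι ι F) := by
      refine Matrix.ext_of_mulVec_single fun i => ?_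
      rw [← mulVec_mulVec, ← mulVec_mulVec, hg, kU_comm hf hw]
    have hc : ∀ k ∈ K, (g : Matrix ι ι F) * k * ((g⁻¹ : GL ι F) : Matrix ι ι F) = k := by
      intro k hk
      obtain ⟨a, b, rfl⟩ := hspan k hk
      rw [mul_add, Matrix.mul_smul, Matrix.mul_smul, mul_one, hcw, add_mul, Matrix.smul_mul,
        Matrix.smul_mul, mul_assoc w, ← Units.val_mul, mul_inv_cancel, Units.val_one, mul_one]
    refine ⟨fun hk => (hc k hk).symm ▸ hk, fun hk => ?_⟩
    have h1 := hc _ hk
    rw [Units.mul_left_inj, Units.mul_right_inj] at h1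
    exact h1 ▸ hk
  refine isMaximalIn_of inf_le_right ?_ fun M hHM hMK g hg hgH => ?_
  · -- an isometry outside the normaliser
    obtain ⟨v, hv⟩ : ∃ v : ι → F, v ≠ 0 := exists_ne 0
    obtain ⟨y, hy⟩ : ∃ y, f y v = 1 ∧ f (w *ᵥ y) v = 0 := by
      -- prescribed values on the independent pair `v`, `w v`
      obtain ⟨z, hz⟩ := (hf.nondegenerate v hv).1
      set φ := f z v
      set ψ := f (w *ᵥ z) v
      -- y = a z + b w z
      have hD : ν * φ ^ 2 - ψ ^ 2 ≠ 0 := fun h => hw.irred (ψ / φ) (by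
        field_simp
        linear_combination -h)
      set D := ν * φ ^ 2 - ψ ^ 2 with hDd
      refine ⟨(ν * φ / D) • z + (-ψ / D) • (w *ᵥ z), ?_, ?_⟩
      · rw [hf.bilinear.add_left, hf.bilinear.smul_left, hf.bilinear.smul_left]
        field_simp
        simp only [hDd, φ, ψ]
        ring
      · rw [mulVec_add, mulVec_smul, mulVec_smul, hw.sq, hf.bilinear.add_left,
          hf.bilinear.smul_left, hf.bilinear.smul_left, hf.bilinear.smul_left]
        simp only [φ, ψ]
        ring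
    refine ⟨st f v 1, st_mem_isom hf v 1, fun hmem => ?_⟩
    have hC := (hmem.1 w).mp hwK
    have h1 := hkline _ hC ((st f v 1 : Matrix ι ι F) *ᵥ y)
    rw [← mulVec_mulVec, inv_mulVec_mulVec, ← mulVec_mulVec, st_mulVec hf v (w *ᵥ y),
      hy.2, mul_zero, zero_smul, add_zero, st_mulVec hf, hy.1, one_mul, one_smul] at h1
    -- `w y` lies on the lines of `y` and of `y + v`
    obtain ⟨k, hk, hky⟩ := hlineK _ _ h1
    have hk0 : k ≠ 0 := by
      intro h0
      rw [h0, zero_mulVec] at hky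
      have := hw.sq y
      rw [← hky, mulVec_zero, eq_comm, smul_eq_zero] at this
      rcases this with h | h
      · exact hw.irred 0 (by simp [h])
      · rw [h, form_zero_left hf.bilinear] at hy
        exact zero_ne_one hy.1
    obtain ⟨k', hk'K, hk'⟩ := hK.inv k hk hk0
    have h2 : y + v ∈ kLine w y := by
      have : (k' * w) *ᵥ y = y + v := by
        rw [← mulVec_mulVec, ← hky, mulVec_mulVec, mul_eq_one_comm.mp hk', one_mulVec]
      exact this ▸ hkline _ (mul_mem hk'K hwK) y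
    have h3 : v ∈ kLine w y := by simpa using sub_mem h2 (self_mem_kLine y)
    obtain ⟨a, b, rfl⟩ := Submodule.mem_span_pair.mp h3
    have h4' := hy.1
    rw [hf.bilinear.add_right, hf.bilinear.smul_right, hf.bilinear.smul_right, hf.alternating,
      form_v_wv hf hw] at h4'
    simp at h4'
  · have hgi := hMK hg
    have hUM : ∀ v s t, kU f w ν v s t ∈ M := fun v s t => hHM (hUmem v s t)
    by_contra hcon
    -- every element of `M` maps field lines to field lines
    have hline : ∀ h ∈ M, ∀ x, x ≠ 0 →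
        (h : Matrix ι ι F) *ᵥ (w *ᵥ x) ∈ kLine w ((h : Matrix ι ι F) *ᵥ x) := by
      intro h hh x hx
      obtain ⟨k, hk, hki, hkc, hkx⟩ := exists_kU_move hf hw hUM (mulVec_ne_zero h hx) hx
      by_contra hout
      refine hcon (full_of_move hf hw hcard h2 hUM (mul_mem hk hh) (mul_mem hki (hMK hh)) hx
        (by rw [Units.val_mul, ← mulVec_mulVec, hkx]) fun hmem => hout ?_)
      rw [Units.val_mul, ← mulVec_mulVec] at hmem
      obtain ⟨a, b, hab⟩ := Submodule.mem_span_pair.mp hmem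
      refine Submodule.mem_span_pair.mpr ⟨a, b, mulVec_injective k ?_⟩
      show _ *ᵥ _ = _ *ᵥ _
      rw [mulVec_add, mulVec_smul, mulVec_smul, hkc, hkx, hab]
    -- conjugates of `w` lie in `K`
    have hconj : ∀ h ∈ M, (h : Matrix ι ι F) * w * ((h⁻¹ : GL ι F) : Matrix ι ι F) ∈ K := by
      intro h hh
      set C := (h : Matrix ι ι F) * w * ((h⁻¹ : GL ι F) : Matrix ι ι F) with hC
      have hCy : ∀ y, C *ᵥ y ∈ kLine w y := by
        intro y
        rw [hC, ← mulVec_mulVec, ← mulVec_mulVec]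
        rcases eq_or_ne y 0 with rfl | hy0
        · simp
        · have := hline h hh _ (mulVec_ne_zero h⁻¹ hy0)
          rwa [mulVec_inv_mulVec] at this
      obtain ⟨v, hv⟩ : ∃ v : ι → F, v ≠ 0 := exists_ne 0
      obtain ⟨k0, hk0, hk0v⟩ := hlineK _ _ (hCy v)
      have hDy : ∀ y, y ∉ kLine w v → C *ᵥ y = k0 *ᵥ y := by
        intro y hy
        obtain ⟨k1, hk1, hk1y⟩ := hlineK _ _ (hCy y)
        obtain ⟨k2, hk2, hk2y⟩ := hlineK _ _ (hCy (y + v))
        rw [mulVec_add C, ← hk1y, ← hk0v, mulVec_add] at hk2y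
        have e : (k1 - k2) *ᵥ y = (k2 - k0) *ᵥ v := by
          rw [sub_mulVec, sub_mulVec]
          linear_combination (norm := module) -hk2y
        by_cases hne : k1 - k2 = 0
        · have : k2 - k0 = 0 := by
            by_contra hne2
            obtain ⟨k', -, hk'⟩ := hK.inv _ (sub_mem hk2 hk0) hne2
            rw [hne, zero_mulVec] at e
            exact hv (by rw [← one_mulVec v, ← mul_eq_one_comm.mp hk', ← mulVec_mulVec, ← e,
              mulVec_zero])
          rw [← hk1y, sub_eq_zero.mp hne, sub_eq_zero.mp this]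
        · obtain ⟨k', hk'K, hk'⟩ := hK.inv _ (sub_mem hk1 hk2) hne
          refine absurd ?_ hy
          have : (k' * (k2 - k0)) *ᵥ v = y := by
            rw [← mulVec_mulVec, ← e, mulVec_mulVec, mul_eq_one_comm.mp hk', one_mulVec]
          exact this ▸ hkline _ (mul_mem hk'K (sub_mem hk2 hk0)) v
      suffices C = k0 from this ▸ hk0
      refine Matrix.ext_of_mulVec_single fun i => ?_
      set y := (Pi.single i 1 : ι → F)
      by_cases hy : y ∈ kLine w v
      · obtain ⟨u, hu⟩ : ∃ u, u ∉ kLine w v := by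
          by_contra hc
          push Not at hc
          have h1 := kLine_eq_orth hf hw hcard hv
          obtain ⟨z, hz⟩ := (hf.nondegenerate v hv).1
          exact hz (mem_orth.mp (h1.symm ▸ hc z) v (self_mem_kLine v))
        have huy : y + u ∉ kLine w v := fun h => hu (by simpa using sub_mem h hy)
        have h1 := hDy _ huy
        rw [mulVec_add, mulVec_add, hDy u hu] at h1
        exact add_right_cancel h1
      · exact hDy y hy
    have hkey : ∀ h ∈ M, ∀ k ∈ K,
        (h : Matrix ι ι F) * k * ((h⁻¹ : GL ι F) : Matrix ι ι F) ∈ K := by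
      intro h hh k hk
      obtain ⟨a, b, rfl⟩ := hspan k hk
      rw [mul_add, Matrix.mul_smul, Matrix.mul_smul, mul_one, add_mul, Matrix.smul_mul,
        Matrix.smul_mul, ← Units.val_mul, mul_inv_cancel, Units.val_one]
      exact add_mem (K.smul_mem (one_mem K) a) (K.smul_mem (hconj h hh) b)
    refine hgH ⟨fun k => ⟨hkey g hg k, fun hk => ?_⟩, hgi⟩
    have := hkey g⁻¹ (inv_mem hg) _ hk
    rwa [inv_inv, ← mul_assoc, ← mul_assoc, ← Units.val_mul, inv_mul_cancel, Units.val_one,
      one_mul, mul_assoc, ← Units.val_mul, inv_mul_cancel, Units.val_one, mul_one] at this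

end Cfsg.Agent.Sp4Odd.FieldExt

namespace Cfsg.Agent.Sp4Odd

open Cfsg.Agent.MaxSub

/-- Clause (4) of `S5786`. -/
theorem field_maximal {F : Type*} [Field F] [Fintype F] (hodd : Odd (Fintype.card F)) :
    ∀ K : Subalgebra F (Matrix (Fin 2 ⊕ Fin 2) (Fin 2 ⊕ Fin 2) F), Cfsg.Geo.IsFieldSubalgebra 2 K → Cfsg.Geo.IsSelfAdjointFor (Cfsg.sympForm 2 F) K → (∀ k ∈ K, ∀ v : (Fin 2 ⊕ Fin 2 → F), (Cfsg.sympForm 2 F) (Matrix.mulVec k v) v = 0) → Cfsg.Geo.IsMaximalIn (Cfsg.spGL 2 F) (Cfsg.Geo.subalgebraNormalizer K ⊓ Cfsg.spGL 2 F) := by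
  intro K hK hsa halt
  have h2 : (2 : F) ≠ 0 := Ring.two_ne_zero fun h => by
    have := FiniteField.even_card_iff_char_two.mp h
    rw [Nat.odd_iff] at hodd
    omega
  rw [spGL_eq_isom]
  exact FieldExt.field_maximal' (isSymplecticForm_sympForm 2) (by simp) h2 hK hsa halt

end Cfsg.Agent.Sp4Odd
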