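import Cfsg.Agent.MaxSub.Lagrangian

/-!
The stabiliser of a pair of complementary Lagrangians is maximal in `Sp_4(q)`, `q ≥ 5` odd
(helper34). The proof works in every dimension `2m ≥ 4`; it uses only dilations of hyperbolic planes.
-/

set_option autoImplicit false
set_option linter.unusedSectionVars false

namespace Cfsg.Agent.Sp4Odd.LagCore

open Matrix Cfsg.Agent.MaxSub

variable {ι : Type} [Fintype ι] [DecidableEq ι] {F : Type*} [Field F]
variable {f : (ι → F) → (ι → F) → F}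

/-- The unit of a pair of mutually inverse linear maps. -/
noncomputable def toGL (A B : (ι → F) →ₗ[F] (ι → F)) (h1 : A ∘ₗ B = LinearMap.id)
    (h2 : B ∘ₗ A = LinearMap.id) : GL ι F :=
  ⟨LinearMap.toMatrix' A, LinearMap.toMatrix' B,
    by rw [← LinearMap.toMatrix'_comp, h1, LinearMap.toMatrix'_id],
    by rw [← LinearMap.toMatrix'_comp, h2, LinearMap.toMatrix'_id]⟩

theorem toGL_mulVec (A B : (ι → F) →ₗ[F] (ι → F)) (h1 : A ∘ₗ B = LinearMap.id)
    (h2 : B ∘ₗ A = LinearMap.id) (x : ι → F) :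
    (toGL A B h1 h2 : Matrix ι ι F) *ᵥ x = A x :=
  LinearMap.toMatrix'_mulVec A x

theorem conj_form {g : GL ι F} (hg : g ∈ isom f) (x z : ι → F) :
    f (((g⁻¹ : GL ι F) : Matrix ι ι F) *ᵥ x) z = f x ((g : Matrix ι ι F) *ᵥ z) := by
  conv_rhs => rw [← mulVec_inv_mulVec g x, mem_isom.mp hg]

theorem conj_form' {g : GL ι F} (hg : g ∈ isom f) (x z : ι → F) :
    f z (((g⁻¹ : GL ι F) : Matrix ι ι F) *ᵥ x) = f ((g : Matrix ι ι F) *ᵥ z) x := by
  conv_rhs => rw [← mulVec_inv_mulVec g x, mem_isom.mp hg]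

variable (hs : Geo.IsSymplecticForm f)
include hs

theorem st_add (v : ι → F) (c d : F) : st f v c * st f v d = st f v (c + d) := by
  refine gl_ext fun x => ?_
  rw [Units.val_mul, ← mulVec_mulVec, st_mulVec hs, st_mulVec hs, st_mulVec hs,
    hs.bilinear.add_left, hs.bilinear.smul_left, hs.alternating, mul_zero, add_zero]
  module

/-- The dilation of a hyperbolic plane. -/
theorem exists_dil {a b : ι → F} (hab : f a b = 1) {l : F} (hl : l ≠ 0) :
    ∃ k ∈ isom f, ∀ x, (k : Matrix ι ι F) *ᵥ x =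
      x + ((l - 1) * f x b) • a + ((l⁻¹ - 1) * f a x) • b := by
  have hb := hs.bilinear
  have hba : f b a = -1 := by rw [hs.skew, hab]
  let A : F → (ι → F) →ₗ[F] (ι → F) := fun t =>
    LinearMap.id + (lmap hb b).smulRight ((t - 1) • a) + (rmap hb a).smulRight ((t⁻¹ - 1) • b)
  have hA : ∀ t x, A t x = x + ((t - 1) * f x b) • a + ((t⁻¹ - 1) * f a x) • b := fun t x => by
    simp only [A, LinearMap.add_apply, LinearMap.id_apply, LinearMap.smulRight_apply, lmap_apply,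
      rmap_apply]
    module
  have hcomp : ∀ t u, t * u = 1 → A t ∘ₗ A u = LinearMap.id := by
    intro t u htu
    refine LinearMap.ext fun x => ?_
    have ht : t⁻¹ = u := inv_eq_of_mul_eq_one_right htu
    have hu : u⁻¹ = t := inv_eq_of_mul_eq_one_left htu
    simp only [LinearMap.comp_apply, LinearMap.id_apply, hA, hb.add_left, hb.add_right,
      hb.smul_left, hb.smul_right, hs.alternating, hab, ht, hu]
    match_scalars
    · ring
    · linear_combination (f x b) * htu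
    · linear_combination (f a x) * htu
  refine ⟨toGL (A l) (A l⁻¹) (hcomp _ _ (mul_inv_cancel₀ hl)) (hcomp _ _ (inv_mul_cancel₀ hl)),
    mem_isom.mpr fun x y => ?_, fun x => by rw [toGL_mulVec, hA]⟩
  simp only [toGL_mulVec, hA, hb.add_left, hb.add_right, hb.smul_left, hb.smul_right,
    hs.alternating, hab, hba, hs.skew x a, hs.skew b y]
  linear_combination (f x b * f a y - f a x * f y b) * mul_inv_cancel₀ hl

variable {m : ℕ} {L L₀ : Submodule F (ι → F)} (hp : LagPair.IsPair f m L L₀)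
include hp

/-- The scalar on the two summands. -/
theorem exists_scalar {l : F} (hl : l ≠ 0) :
    ∃ k ∈ isom f, (∀ x ∈ L, (k : Matrix ι ι F) *ᵥ x = l • x) ∧
      ∀ y ∈ L₀, (k : Matrix ι ι F) *ᵥ y = l⁻¹ • y := by
  have hb := hs.bilinear
  let P := L.projection L₀ hp.compl
  have hP : ∀ x, P x ∈ L := fun x => Submodule.projection_apply_mem hp.compl x
  have hPL : ∀ x ∈ L, P x = x := fun x hx => Submodule.projection_apply_of_mem_left hp.compl hx
  have hP0 : ∀ x ∈ L₀, P x = 0 := fun x hx =>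
    (Submodule.projection_apply_eq_zero_iff hp.compl).mpr hx
  have hQ : ∀ x, x - P x ∈ L₀ := fun x =>
    (Submodule.projection_apply_eq_zero_iff hp.compl).mp (by
      show P (x - P x) = 0
      rw [map_sub, hPL _ (hP x), sub_self])
  let A : F → (ι → F) →ₗ[F] (ι → F) := fun t => t • P + t⁻¹ • (LinearMap.id - P)
  have hA : ∀ t x, A t x = t • P x + t⁻¹ • (x - P x) := fun t x => rfl
  have hcomp : ∀ t u, t * u = 1 → A t ∘ₗ A u = LinearMap.id := by
    intro t u htu
    refine LinearMap.ext fun x => ?_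
    have ht : t⁻¹ = u := inv_eq_of_mul_eq_one_right htu
    have hu : u⁻¹ = t := inv_eq_of_mul_eq_one_left htu
    have e : P (A u x) = u • P x := by
      rw [hA, map_add, map_smul, map_smul, hPL _ (hP x), hP0 _ (hQ x), smul_zero, add_zero]
    rw [LinearMap.comp_apply, hA t, e, hA u, ht, hu, LinearMap.id_apply, add_sub_cancel_left,
      smul_smul, smul_smul, mul_comm u t, htu, one_smul, one_smul, add_sub_cancel]
  refine ⟨toGL (A l) (A l⁻¹) (hcomp _ _ (mul_inv_cancel₀ hl)) (hcomp _ _ (inv_mul_cancel₀ hl)),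
    mem_isom.mpr fun x y => ?_, fun x hx => ?_, fun y hy => ?_⟩
  · simp only [toGL_mulVec, hA]
    conv_rhs => rw [← add_sub_cancel (P x) x, ← add_sub_cancel (P y) y]
    simp only [hb.add_left, hb.add_right, hb.smul_left, hb.smul_right,
      hp.iso₁ _ (hP x) _ (hP y), hp.iso₂ _ (hQ x) _ (hQ y)]
    linear_combination (f (P x) (y - P y) + f (x - P x) (P y)) * mul_inv_cancel₀ hl
  · rw [toGL_mulVec, hA, hPL x hx, sub_self, smul_zero, add_zero]
  · rw [toGL_mulVec, hA, hP0 y hy, smul_zero, zero_add, sub_zero]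

variable [Finite F] (hf : LagPair.IsPairForm (RingHom.id F) (1 : F) f)
include hf

variable {M : Subgroup (GL ι F)}
variable (hM : ∀ g ∈ isom f, (∀ x ∈ L, (g : Matrix ι ι F) *ᵥ x ∈ L) →
  (∀ y ∈ L₀, (g : Matrix ι ι F) *ᵥ y ∈ L₀) → g ∈ M)
include hM

/-- A non-trivial element centralising `L` with image in `L`. -/
theorem exists_unipotent {h : GL ι F} (hh : h ∈ M) (hhi : h ∈ isom f)
    (h1 : ∀ x ∈ L, (h : Matrix ι ι F) *ᵥ x ∈ L)
    (h2 : ¬ ∀ y ∈ L₀, (h : Matrix ι ι F) *ᵥ y ∈ L₀) {l : F} (hl : l ≠ 0) (hl2 : l * l ≠ 1) :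
    ∃ n ∈ M, n ∈ isom f ∧ (∀ x ∈ L, (n : Matrix ι ι F) *ᵥ x = x) ∧
      (∀ x, (n : Matrix ι ι F) *ᵥ x - x ∈ L) ∧ ∃ y ∈ L₀, (n : Matrix ι ι F) *ᵥ y ≠ y := by
  obtain ⟨c, hc, hcL, hc0⟩ := exists_scalar hs hp hl
  have hcM : c ∈ M := hM c hc (fun x hx => by rw [hcL x hx]; exact L.smul_mem _ hx)
    fun y hy => by rw [hc0 y hy]; exact L₀.smul_mem _ hy
  have hiL : ∀ x ∈ L, ((c⁻¹ : GL ι F) : Matrix ι ι F) *ᵥ x = l⁻¹ • x := fun x hx => by
    have e : (c : Matrix ι ι F) *ᵥ (l⁻¹ • x) = x := by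
      rw [mulVec_smul, hcL x hx, smul_smul, inv_mul_cancel₀ hl, one_smul]
    conv_lhs => rw [← e, inv_mulVec_mulVec]
  have hi0 : ∀ y ∈ L₀, ((c⁻¹ : GL ι F) : Matrix ι ι F) *ᵥ y = l • y := fun y hy => by
    have e : (c : Matrix ι ι F) *ᵥ (l • y) = y := by
      rw [mulVec_smul, hc0 y hy, smul_smul, mul_inv_cancel₀ hl, one_smul]
    conv_lhs => rw [← e, inv_mulVec_mulVec]
  have hhinv := LagPair.inv_mem_of_forall h1 le_rfl
  set n := h * c * h⁻¹ * c⁻¹ with hn
  have hnL : ∀ x ∈ L, (n : Matrix ι ι F) *ᵥ x = x := fun x hx => by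
    simp only [hn, Units.val_mul, ← mulVec_mulVec, hiL x hx, mulVec_smul]
    rw [hcL _ (hhinv x hx), mulVec_smul, mulVec_inv_mulVec, smul_smul, inv_mul_cancel₀ hl,
      one_smul]
  have key : ∀ y ∈ L₀, ∃ u ∈ L, ∃ v ∈ L₀, u + v = ((h⁻¹ : GL ι F) : Matrix ι ι F) *ᵥ y ∧
      (n : Matrix ι ι F) *ᵥ y = y + (l * l - 1) • ((h : Matrix ι ι F) *ᵥ u) := by
    intro y hy
    obtain ⟨u, hu, v, hv, huv⟩ := hp.exists_add (((h⁻¹ : GL ι F) : Matrix ι ι F) *ᵥ y)
    refine ⟨u, hu, v, hv, huv, ?_⟩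
    have hy' : y = (h : Matrix ι ι F) *ᵥ u + (h : Matrix ι ι F) *ᵥ v := by
      rw [← mulVec_add, huv, mulVec_inv_mulVec]
    simp only [hn, Units.val_mul, ← mulVec_mulVec, hi0 y hy, mulVec_smul, ← huv, mulVec_add,
      hcL u hu, hc0 v hv]
    rw [hy']
    match_scalars
    · ring
    · field_simp
  refine ⟨n, mul_mem (mul_mem (mul_mem hh hcM) (inv_mem hh)) (inv_mem hcM),
    mul_mem (mul_mem (mul_mem hhi hc) (inv_mem hhi)) (inv_mem hc), hnL, fun x => ?_, ?_⟩
  · obtain ⟨u, hu, y, hy, rfl⟩ := hp.exists_add x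
    obtain ⟨u', hu', v', -, -, e⟩ := key y hy
    rw [mulVec_add, hnL u hu, e, add_sub_add_left_eq_sub, add_sub_cancel_left]
    exact L.smul_mem _ (h1 u' hu')
  · by_contra hc'
    simp only [not_exists, not_and, not_not] at hc'
    refine h2 (inv_inv h ▸ LagPair.inv_mem_of_forall (g := h⁻¹) (fun y hy => ?_) le_rfl)
    obtain ⟨u, -, v, hv, huv, e⟩ := key y hy
    rw [hc' y hy, eq_comm, add_eq_left, smul_eq_zero] at e
    have hu0 : u = 0 := by
      by_contra h0
      exact mulVec_ne_zero h h0 (e.resolve_left (sub_ne_zero.mpr hl2))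
    rw [← huv, hu0, zero_add]
    exact hv

/-- An element fixing `L` but not `L₀` makes every vector of `L` a centre. -/
theorem centres_of_not_fix [Fintype F] (h5 : 5 ≤ Fintype.card F) {h : GL ι F} (hh : h ∈ M)
    (hhi : h ∈ isom f) (h1 : ∀ x ∈ L, (h : Matrix ι ι F) *ᵥ x ∈ L)
    (h2 : ¬ ∀ y ∈ L₀, (h : Matrix ι ι F) *ᵥ y ∈ L₀) (htwo : (2 : F) ≠ 0) :
    ∀ p ∈ L, p ∈ centres f M := by
  classical
  have hb := hs.bilinear
  obtain ⟨l, -, hl⟩ := Finset.exists_mem_notMem_of_card_lt_card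
    (s := ({0, 1, -1} : Finset F)) (t := Finset.univ)
    (Finset.card_le_three.trans_lt (by rw [Finset.card_univ]; omega))
  simp only [Finset.mem_insert, Finset.mem_singleton, not_or] at hl
  obtain ⟨n, hnM, hni, hnL, hnV, y₀, hy₀, hny₀⟩ := exists_unipotent hs hp hf hM hh hhi h1 h2 hl.1
    fun e => by rcases mul_self_eq_one_iff.mp e with e | e <;> simp [e] at hl
  let Z : (ι → F) →ₗ[F] (ι → F) := (n : Matrix ι ι F).mulVecLin - LinearMap.id
  have hZ : ∀ x, (n : Matrix ι ι F) *ᵥ x = x + Z x := fun x => by simp [Z]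
  have hZV : ∀ x, Z x ∈ L := hnV
  have hZL : ∀ x ∈ L, Z x = 0 := fun x hx => by simp [Z, hnL x hx]
  have hsym : ∀ x y, f (Z x) y = f (Z y) x := fun x y => by
    have e := mem_isom.mp hni x y
    rw [hZ, hZ, hb.add_left, hb.add_right, hb.add_right, hp.iso₁ _ (hZV x) _ (hZV y), add_zero,
      hs.skew x (Z y)] at e
    linear_combination e
  obtain ⟨v, hv, hφ⟩ : ∃ v ∈ L₀, f (Z v) v ≠ 0 := by
    by_contra hc
    simp only [not_exists, not_and, not_not] at hc
    refine hny₀ ?_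
    rw [hZ, add_eq_left]
    by_contra h0
    obtain ⟨w, hw⟩ := (hs.nondegenerate _ h0).2
    obtain ⟨u, hu, w', hw', rfl⟩ := hp.exists_add w
    apply hw
    rw [hb.add_right, hp.iso₁ _ (hZV y₀) u hu, zero_add]
    have e := hc _ (add_mem hy₀ hw')
    rw [map_add, hb.add_left, hb.add_right, hb.add_right, hc _ hy₀, hc _ hw', hsym w' y₀] at e
    refine (mul_eq_zero.mp (?_ : (2 : F) * _ = 0)).resolve_left htwo
    linear_combination e
  set φ := f (Z v) v with hφdef
  set a := φ⁻¹ • Z v with ha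
  have haL : a ∈ L := L.smul_mem _ (hZV v)
  have hav : f a v = 1 := by rw [ha, hb.smul_left, inv_mul_cancel₀ hφ]
  have hZv : Z v = φ • a := by rw [ha, smul_smul, mul_inv_cancel₀ hφ, one_smul]
  have key : ∀ t : F, t ≠ 0 → st f a ((1 - t * t) * φ) ∈ M := by
    intro t ht
    obtain ⟨k, hki, hk⟩ := exists_dil hs hav ht
    have hkM : k ∈ M := hM k hki
      (fun x hx => by
        rw [hk, hp.iso₁ a haL x hx, mul_zero, zero_smul, add_zero]
        exact add_mem hx (L.smul_mem _ haL))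
      (fun x hx => by
        rw [hk, hp.iso₂ x hx v hv, mul_zero, zero_smul, add_zero]
        exact add_mem hx (L₀.smul_mem _ hv))
    have e : st f a ((1 - t * t) * φ) * (n * k) = k * n := by
      refine gl_ext fun x => ?_
      have e1 : f (Z x) v = φ * f a x := by rw [hsym, hZv, hb.smul_left]
      have e2 : f a (Z x) = 0 := hp.iso₁ a haL _ (hZV x)
      have e3 : f (Z x) a = 0 := hp.iso₁ _ (hZV x) a haL
      have e4 : f v a = -1 := by rw [hs.skew, hav]
      simp only [Units.val_mul, ← mulVec_mulVec, st_mulVec hs, hk, hZ, map_add, map_smul,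
        hZL a haL, hZv, hb.add_left, hb.add_right, hb.smul_left, hb.smul_right, e1, e2, e3, e4,
        hs.alternating, hs.skew x a, form_zero_left hb]
      match_scalars <;> field_simp <;> ring
    have e' : st f a ((1 - t * t) * φ) = k * n * (n * k)⁻¹ := by rw [← e]; group
    rw [e']
    exact mul_mem (mul_mem hkM hnM) (inv_mem (mul_mem hnM hkM))
  let P : AddSubgroup F :=
    { carrier := {r | st f a (r * φ) ∈ M}
      add_mem' := fun {r r'} h h' => by
        show st f a ((r + r') * φ) ∈ M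
        rw [add_mul, ← st_add hs]
        exact mul_mem h h'
      zero_mem' := by
        show st f a (0 * φ) ∈ M
        rw [zero_mul]
        rw [show st f a (0 : F) = 1 from gl_ext fun x => by simp [st_mulVec hs]]
        exact one_mem M
      neg_mem' := fun {r} h => by
        show st f a (-r * φ) ∈ M
        have e : st f a (-r * φ) = (st f a (r * φ))⁻¹ := eq_inv_of_mul_eq_one_left (by
          rw [st_add hs]
          exact gl_ext fun x => by simp [st_mulVec hs])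
        rw [e]; exact inv_mem h }
  have hsq : ∀ r : F, r ≠ 1 → r ≠ -1 → r ∈ P := fun r hr hr' => by
    have e : r = (1 - (r - 1) / 2 * ((r - 1) / 2)) - (1 - (r + 1) / 2 * ((r + 1) / 2)) := by
      field_simp; ring
    rw [e]
    exact P.sub_mem (key _ (div_ne_zero (sub_ne_zero.mpr hr) htwo))
      (key _ (div_ne_zero (fun h0 => hr' (eq_neg_of_add_eq_zero_left h0)) htwo))
  have hall : ∀ r : F, r ∈ P := by
    have h1' : (1 : F) ∈ P := by
      obtain ⟨u, -, hu⟩ := Finset.exists_mem_notMem_of_card_lt_card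
        (s := ({0, 1, -1, 2} : Finset F)) (t := Finset.univ)
        (Finset.card_le_four.trans_lt (by rw [Finset.card_univ]; omega))
      simp only [Finset.mem_insert, Finset.mem_singleton, not_or] at hu
      obtain ⟨u0, u1, u2, u3⟩ := hu
      have := P.add_mem (hsq u u1 u2) (hsq (1 - u) (fun h0 => u0 (by linear_combination -h0))
        fun h0 => u3 (by linear_combination -h0))
      rwa [add_sub_cancel] at this
    intro r
    by_cases hr : r = 1
    · exact hr ▸ h1'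
    by_cases hr' : r = -1
    · exact hr' ▸ P.neg_mem h1'
    exact hsq r hr hr'
  have haC : a ∈ centres f M := fun c => by
    have : st f a (c / φ * φ) ∈ M := hall (c / φ)
    rwa [div_mul_cancel₀ _ hφ] at this
  intro q hq
  by_cases hdep : q ∈ Submodule.span F {a}
  · obtain ⟨r, rfl⟩ := Submodule.mem_span_singleton.mp hdep
    exact smul_mem_centres hs haC r
  have ha0 : a ∉ Submodule.span F {q - a} := fun hmem => by
    obtain ⟨r, hr⟩ := Submodule.mem_span_singleton.mp hmem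
    by_cases hr0 : r = 0
    · rw [hr0, zero_smul] at hr
      rw [← hr, form_zero_left hb] at hav
      exact zero_ne_one hav
    refine hdep (Submodule.mem_span_singleton.mpr ⟨1 + r⁻¹, ?_⟩)
    nth_rw 1 [← sub_add_cancel q a]
    rw [add_smul, one_smul]
    nth_rw 2 [← hr]
    rw [inv_smul_smul₀ hr0, add_comm]
  obtain ⟨u, hu, hau, huU⟩ := LagPair.exists_dual_mem hf hp haL ha0
  have hd : q - a ∈ L := sub_mem hq haL
  have hdu : f (q - a) u = 0 := huU _ hd (Submodule.mem_span_singleton_self _)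
  have hdd := hp.iso₁ _ hd _ hd
  have huu := hp.iso₂ _ hu _ hu
  have hei := LagPair.E_mem_isom hf hdd huu hdu
  have heM : LagPair.E f 1 (q - a) u ∈ M := hM _ hei
    (fun x hx => by
      rw [LagPair.E_mulVec hf hdd huu hdu, hp.iso₁ x hx _ hd, mul_zero, zero_smul, add_zero]
      exact add_mem hx (L.smul_mem _ hd))
    (fun x hx => by
      rw [LagPair.E_mulVec hf hdd huu hdu, hp.iso₂ x hx _ hu, zero_smul, add_zero]
      exact add_mem hx (L₀.smul_mem _ hu))
  have := conj_mem_centres hs heM hei haC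
  rwa [LagPair.E_mulVec hf hdd huu hdu, hau, one_smul, hp.iso₁ a haL _ hd, mul_zero, zero_smul,
    add_zero, add_sub_cancel] at this

/-- With all one-sided stabilisers inside the stabiliser, an element keeping one non-zero vector of
`L` inside `L` stabilises the pair. -/
theorem fix_of_common {w : GL ι F} (hwM : w ∈ M) (hw0 : ∀ x ∈ L, (w : Matrix ι ι F) *ᵥ x ∈ L₀)
    (hw1 : ∀ x ∈ L₀, (w : Matrix ι ι F) *ᵥ x ∈ L) (hMi : M ≤ isom f)
    (hA : ∀ h ∈ M, (∀ x ∈ L, (h : Matrix ι ι F) *ᵥ x ∈ L) →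
      ∀ y ∈ L₀, (h : Matrix ι ι F) *ᵥ y ∈ L₀)
    {l : F} (hl : l ≠ 0) (hl2 : l * l ≠ 1) {g : GL ι F} (hg : g ∈ M) {a₀ : ι → F}
    (ha₀ : a₀ ∈ L) (ha₀0 : a₀ ≠ 0) (haL : (g : Matrix ι ι F) *ᵥ a₀ ∈ L) :
    (∀ x ∈ L, (g : Matrix ι ι F) *ᵥ x ∈ L) ∧ ∀ y ∈ L₀, (g : Matrix ι ι F) *ᵥ y ∈ L₀ := by
  have hb := hs.bilinear
  have hgi := hMi hg
  set a := (g : Matrix ι ι F) *ᵥ a₀ with ha
  have ha0 : a ≠ 0 := mulVec_ne_zero g ha₀0
  have step : ∀ z₀ ∈ L₀, f a₀ z₀ = 1 → (g : Matrix ι ι F) *ᵥ z₀ ∈ L₀ := by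
    intro z₀ hz₀ h1
    set z := (g : Matrix ι ι F) *ᵥ z₀ with hz
    obtain ⟨d, hdi, hd⟩ := exists_dil hs h1 hl
    have hdM : d ∈ M := hM d hdi
      (fun x hx => by
        rw [hd, hp.iso₁ a₀ ha₀ x hx, mul_zero, zero_smul, add_zero]
        exact add_mem hx (L.smul_mem _ ha₀))
      (fun x hx => by
        rw [hd, hp.iso₂ x hx z₀ hz₀, mul_zero, zero_smul, add_zero]
        exact add_mem hx (L₀.smul_mem _ hz₀))
    have hkM : g * d * g⁻¹ ∈ M := mul_mem (mul_mem hg hdM) (inv_mem hg)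
    have hk : ∀ x, ((g * d * g⁻¹ : GL ι F) : Matrix ι ι F) *ᵥ x =
        x + ((l - 1) * f x z) • a + ((l⁻¹ - 1) * f a x) • z := fun x => by
      simp only [Units.val_mul, ← mulVec_mulVec, hd, mulVec_add, mulVec_smul, mulVec_inv_mulVec,
        conj_form hgi, conj_form' hgi, ha, hz]
    have hk0 := hA _ hkM fun x hx => by
      rw [hk, hp.iso₁ a haL x hx, mul_zero, zero_smul, add_zero]
      exact add_mem hx (L.smul_mem _ haL)
    obtain ⟨zl, hzl, z', hz', hdec⟩ := hp.exists_add z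
    obtain ⟨x, hx, hax, -⟩ :=
      LagPair.exists_dual_mem hf hp (U := ⊥) haL (by simpa using ha0)
    have hmem := hk0 x hx
    rw [hk, hax, mul_one, add_assoc, Submodule.add_mem_iff_right _ hx, ← hdec, smul_add,
      ← add_assoc, Submodule.add_mem_iff_left _ (L₀.smul_mem _ hz')] at hmem
    have h0 := hp.eq_zero (add_mem (L.smul_mem _ haL) (L.smul_mem _ hzl)) hmem
    have hlne : l⁻¹ - 1 ≠ 0 := sub_ne_zero.mpr fun e => hl2 (by
      rw [inv_eq_one] at e; rw [e, mul_one])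
    obtain ⟨ρ, hρ⟩ : ∃ ρ : F, zl = ρ • a :=
      ⟨-((l⁻¹ - 1)⁻¹ * ((l - 1) * f x (zl + z'))), by
        rw [neg_smul, mul_smul, ← smul_neg, ← eq_neg_of_add_eq_zero_right h0, smul_smul,
          inv_mul_cancel₀ hlne, one_smul]⟩
    rw [hρ, hb.add_right, hp.iso₂ x hx z' hz', hb.smul_right, hs.skew x a, hax, smul_smul,
      ← add_smul, smul_eq_zero] at h0
    have h0' := h0.resolve_right ha0
    have hρ0 : ρ = 0 := (mul_eq_zero.mp (show ρ * (1 - l * l) = 0 by
      field_simp at h0'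
      linear_combination h0')).resolve_right (sub_ne_zero.mpr (Ne.symm hl2))
    rw [← hdec, hρ, hρ0, zero_smul, zero_add]
    exact hz'
  obtain ⟨z₁, hz₁, haz₁, -⟩ :=
    LagPair.exists_dual_mem hf hp (U := ⊥) ha₀ (by simpa using ha₀0)
  have h0 : ∀ y ∈ L₀, (g : Matrix ι ι F) *ᵥ y ∈ L₀ := by
    intro y hy
    have e : y = (y + (1 - f a₀ y) • z₁) - (1 - f a₀ y) • z₁ := by abel
    rw [e, mulVec_sub, mulVec_smul]
    refine sub_mem (step _ (add_mem hy (L₀.smul_mem _ hz₁)) ?_)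
      (L₀.smul_mem _ (step _ hz₁ haz₁))
    rw [hb.add_right, hb.smul_right, haz₁]; ring
  refine ⟨fun x hx => ?_, h0⟩
  have hd : Module.finrank F L = Module.finrank F L₀ := by rw [hp.fin₁, hp.fin₂]
  have h := hA (w * g * w⁻¹) (mul_mem (mul_mem hwM hg) (inv_mem hwM)) (fun y hy => by
    simp only [Units.val_mul, ← mulVec_mulVec]
    exact hw1 _ (h0 _ (LagPair.inv_mem_of_forall hw1 hd.le y hy))) _ (hw0 x hx)
  simp only [Units.val_mul, ← mulVec_mulVec, inv_mulVec_mulVec] at h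
  have := LagPair.inv_mem_of_forall hw0 hd.ge _ h
  rwa [inv_mulVec_mulVec] at this

/-- An overgroup of the stabiliser of the pair is everything or preserves the pair. -/
theorem isom_le [Fintype F] (h5 : 5 ≤ Fintype.card F) (hm : 2 ≤ m) (htwo : (2 : F) ≠ 0)
    {w : GL ι F} (hwM : w ∈ M) (hw0 : ∀ x ∈ L, (w : Matrix ι ι F) *ᵥ x ∈ L₀)
    (hw1 : ∀ x ∈ L₀, (w : Matrix ι ι F) *ᵥ x ∈ L) (hMi : M ≤ isom f)
    {g : GL ι F} (hg : g ∈ M)
    (hne : ¬ ((∀ x ∈ L, (g : Matrix ι ι F) *ᵥ x ∈ L) ∧ ∀ y ∈ L₀, (g : Matrix ι ι F) *ᵥ y ∈ L₀))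
    (hne' : ¬ ((∀ x ∈ L, (g : Matrix ι ι F) *ᵥ x ∈ L₀) ∧ ∀ y ∈ L₀, (g : Matrix ι ι F) *ᵥ y ∈ L)) :
    isom f ≤ M := by
  classical
  have hb := hs.bilinear
  have hd : Module.finrank F L = Module.finrank F L₀ := by rw [hp.fin₁, hp.fin₂]
  by_cases hA : ∀ h ∈ M, (∀ x ∈ L, (h : Matrix ι ι F) *ᵥ x ∈ L) →
      ∀ y ∈ L₀, (h : Matrix ι ι F) *ᵥ y ∈ L₀
  swap
  · simp only [not_forall] at hA
    obtain ⟨h, hh, h1, hbad⟩ := hA
    have hC := centres_of_not_fix hs hp hf hM h5 hh (hMi hh) h1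
      (by simpa only [not_forall] using hbad) htwo
    have hC0 : ∀ q ∈ L₀, q ∈ centres f M := fun q hq => by
      have := conj_mem_centres hs hwM (hMi hwM) (hC _ (LagPair.inv_mem_of_forall hw0 hd.ge q hq))
      rwa [mulVec_inv_mulVec] at this
    exact isom_le_of_st_mem hs fun v c => LagPair.T_mem_of_both hf hp one_ne_zero
      (show (1 : F) * RingHom.id F 1 = 1 by simp) (fun v hv a _ => hC v hv a)
      (fun v hv a _ => hC0 v hv a) (hs.alternating v) (show (1 : F) * RingHom.id F c = c by simp)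
  exfalso
  obtain ⟨l, -, hl⟩ := Finset.exists_mem_notMem_of_card_lt_card
    (s := ({0, 1, -1} : Finset F)) (t := Finset.univ)
    (Finset.card_le_three.trans_lt (by rw [Finset.card_univ]; omega))
  simp only [Finset.mem_insert, Finset.mem_singleton, not_or] at hl
  have hl2 : l * l ≠ 1 := fun e => by
    rcases mul_self_eq_one_iff.mp e with e | e <;> simp [e] at hl
  have claim := fun (g : GL ι F) (hg : g ∈ M) a (ha : a ∈ L) (ha0 : a ≠ 0) h =>
    fix_of_common hs hp hf hM hwM hw0 hw1 hMi hA hl.1 hl2 (g := g) hg (a₀ := a) ha ha0 h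
  -- the image of `L` meets neither summand
  have hgL : ∀ x ∈ L, (g : Matrix ι ι F) *ᵥ x ∈ L → x = 0 := fun x hx hgx => by
    by_contra h0
    exact hne (claim g hg x hx h0 hgx)
  have hgL0 : ∀ x ∈ L, (g : Matrix ι ι F) *ᵥ x ∈ L₀ → x = 0 := fun x hx hgx => by
    by_contra h0
    have hwg := claim (w * g) (mul_mem hwM hg) x hx h0 (by
      rw [Units.val_mul, ← mulVec_mulVec]; exact hw1 _ hgx)
    refine hne' ⟨fun y hy => ?_, fun y hy => ?_⟩
    · have := hwg.1 y hy
      rw [Units.val_mul, ← mulVec_mulVec] at this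
      simpa [inv_mulVec_mulVec] using LagPair.inv_mem_of_forall hw1 hd.le _ this
    · have := hwg.2 y hy
      rw [Units.val_mul, ← mulVec_mulVec] at this
      simpa [inv_mulVec_mulVec] using LagPair.inv_mem_of_forall hw0 hd.ge _ this
  set W := L.map (g : Matrix ι ι F).mulVecLin with hW
  have hWL : W ⊓ L = ⊥ := by
    rw [eq_bot_iff]
    rintro _ ⟨⟨x, hx, rfl⟩, h2⟩
    rw [Submodule.mem_bot, hgL x hx h2, map_zero]
  have hWfin : Module.finrank F W = m := by
    rw [hW, (Submodule.equivMapOfInjective _ (mulVec_injective g) L).symm.finrank_eq, hp.fin₁]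
  have hWi : ∀ x ∈ W, ∀ y ∈ W, f x y = 0 := by
    rintro _ ⟨x, hx, rfl⟩ _ ⟨y, hy, rfl⟩
    rw [Matrix.mulVecLin_apply, Matrix.mulVecLin_apply, mem_isom.mp (hMi hg), hp.iso₁ x hx y hy]
  -- a vector of `W` whose components pair non-trivially
  obtain ⟨w₁, hw₁, a, ha, b, hbm, hdec, hγ⟩ :
      ∃ w₁ ∈ W, ∃ a ∈ L, ∃ b ∈ L₀, a + b = w₁ ∧ f a b ≠ 0 := by
    by_contra hc
    simp only [not_exists, not_and, not_not] at hc
    have hd' : ∀ u ∈ W, ∀ a ∈ L, ∀ b ∈ L₀, a + b = u → a = 0 := by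
      intro u hu a ha b hbm hab
      by_contra ha0
      obtain ⟨y, hy⟩ := (hs.nondegenerate a ha0).2
      have htop : W ⊔ L = ⊤ := by
        refine Submodule.eq_top_of_finrank_eq ?_
        have e := Submodule.finrank_sup_add_finrank_inf_eq W L
        have e' := Submodule.finrank_add_eq_of_isCompl hp.compl
        rw [hWL, finrank_bot, hWfin, hp.fin₁] at e
        rw [hp.fin₁, hp.fin₂] at e'
        omega
      obtain ⟨u', hu', x, hx, rfl⟩ := Submodule.mem_sup.mp (htop ▸ Submodule.mem_top : y ∈ W ⊔ L)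
      apply hy
      rw [hb.add_right, hp.iso₁ a ha x hx, add_zero]
      obtain ⟨a', ha', b', hb', hab'⟩ := hp.exists_add u'
      have e1 := hWi u hu u' hu'
      have e2 := hc _ (add_mem hu hu') (a + a') (add_mem ha ha') (b + b') (add_mem hbm hb')
        (by rw [← hab, ← hab']; abel)
      have e3 := hc _ hu a ha b hbm hab
      have e4 := hc _ hu' a' ha' b' hb' hab'
      rw [← hab, ← hab', hb.add_left, hb.add_right, hb.add_right, hp.iso₁ a ha a' ha',
        hp.iso₂ b hbm b' hb', hs.skew b a'] at e1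
      rw [hb.add_left, hb.add_right, hb.add_right, e3, e4] at e2
      rw [← hab', hb.add_right, hp.iso₁ a ha a' ha', zero_add]
      refine (mul_eq_zero.mp (?_ : (2 : F) * _ = 0)).resolve_left htwo
      linear_combination e1 + e2
    obtain ⟨x, hx, hx0⟩ := L.ne_bot_iff.mp fun h => by
      have := hp.fin₁; rw [h, finrank_bot] at this; omega
    obtain ⟨a, ha, b, hbm, hab⟩ := hp.exists_add ((g : Matrix ι ι F) *ᵥ x)
    have := hd' _ ⟨x, hx, rfl⟩ a ha b hbm hab
    exact hx0 (hgL0 x hx (by rw [← hab, this, zero_add]; exact hbm))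
  obtain ⟨d, hdi, hdx⟩ := exists_dil hs (a := a) (b := (f a b)⁻¹ • b)
    (by rw [hb.smul_right, inv_mul_cancel₀ hγ]) hl.1
  have hdM : d ∈ M := hM d hdi
    (fun x hx => by
      rw [hdx, hp.iso₁ a ha x hx, mul_zero, zero_smul, add_zero]
      exact add_mem hx (L.smul_mem _ ha))
    (fun x hx => by
      rw [hdx, hb.smul_right, hp.iso₂ x hx b hbm, mul_zero, mul_zero, zero_smul, add_zero]
      exact add_mem hx (L₀.smul_mem _ (L₀.smul_mem _ hbm)))
  obtain ⟨x, hx, hx0, hax⟩ : ∃ x ∈ L, x ≠ 0 ∧ f a ((g : Matrix ι ι F) *ᵥ x) = 0 := by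
    let φ : L →ₗ[F] F := (rmap hb a) ∘ₗ (g : Matrix ι ι F).mulVecLin ∘ₗ L.subtype
    have e := LinearMap.finrank_range_add_finrank_ker φ
    have e' := (LinearMap.range φ).finrank_le
    rw [hp.fin₁] at e
    rw [Module.finrank_self] at e'
    obtain ⟨x, hx, hx0⟩ := (LinearMap.ker φ).ne_bot_iff.mp fun h => by
      rw [h, finrank_bot] at e; omega
    exact ⟨x, x.2, fun h => hx0 (Subtype.ext h), hx⟩
  have hxw : f ((g : Matrix ι ι F) *ᵥ x) ((f a b)⁻¹ • b) = 0 := by
    have e := hWi _ ⟨x, hx, rfl⟩ w₁ hw₁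
    rw [Matrix.mulVecLin_apply, ← hdec, hb.add_right, hs.skew _ a, hax, neg_zero, zero_add] at e
    rw [hb.smul_right, e, mul_zero]
  have hfix : ((g⁻¹ * d * g : GL ι F) : Matrix ι ι F) *ᵥ x = x := by
    simp only [Units.val_mul, ← mulVec_mulVec]
    rw [hdx, hxw, hax]
    simp [inv_mulVec_mulVec]
  obtain ⟨x₁, hx₁, hgx₁⟩ := hw₁
  have hmem := (claim _ (mul_mem (mul_mem (inv_mem hg) hdM) hg) x hx hx0 (hfix.symm ▸ hx)).1 x₁ hx₁
  simp only [Units.val_mul, ← mulVec_mulVec] at hmem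
  rw [Matrix.mulVecLin_apply] at hgx₁
  have hmem' : (d : Matrix ι ι F) *ᵥ (a + b) ∈ W := ⟨_, hmem, by
    rw [Matrix.mulVecLin_apply, mulVec_inv_mulVec, hgx₁, hdec]⟩
  have e : (d : Matrix ι ι F) *ᵥ (a + b) = l • a + l⁻¹ • b := by
    rw [hdx, hb.smul_right, hb.add_left, hb.add_right]
    simp only [hs.alternating]
    match_scalars <;> field_simp <;> ring
  have hab' : a + b ∈ W := ⟨x₁, hx₁, by rw [Matrix.mulVecLin_apply, hgx₁, hdec]⟩
  rw [e] at hmem'
  have h1 : (l - l⁻¹) • a ∈ W := by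
    have := sub_mem hmem' (W.smul_mem l⁻¹ hab')
    convert this using 1; module
  have h0 : (l - l⁻¹) • a = 0 :=
    (Submodule.mem_bot F).mp (hWL ▸ Submodule.mem_inf.mpr ⟨h1, L.smul_mem _ ha⟩)
  have hne0 : l - l⁻¹ ≠ 0 := fun h => hl2 (by
    have := hl.1
    rw [sub_eq_zero] at h
    field_simp at h
    linear_combination h)
  rw [(smul_eq_zero.mp h0).resolve_left hne0, form_zero_left hb] at hγ
  exact hγ rfl

end Cfsg.Agent.Sp4Odd.LagCore

namespace Cfsg.Agent.Sp4Odd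

open Cfsg

/-- The stabiliser of a pair of complementary Lagrangians is maximal in `Sp_4(q)`, `q ≥ 5` odd. -/
theorem lagrangian_maximal {F : Type*} [Field F] [Fintype F] (hodd : Odd (Fintype.card F)) :
    5 ≤ Fintype.card F → ∀ D : Fin 2 → Submodule F (Fin 2 ⊕ Fin 2 → F),
      Cfsg.Geo.IsMDecomposition 2 D →
      (∀ i, Cfsg.Geo.IsTotallySingularFor (Cfsg.sympForm 2 F) (D i)) →
      Cfsg.Geo.IsMaximalIn (Cfsg.spGL 2 F) (Cfsg.Geo.decompositionStabilizer D ⊓ Cfsg.spGL 2 F) := by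
  classical
  intro h5 D hD hts
  have hs := MaxSub.isSymplecticForm_sympForm (F := F) 2
  have hf : LagPair.IsPairForm (RingHom.id F) (1 : F) (sympForm 2 F) :=
    ⟨hs.bilinear.add_left, hs.bilinear.smul_left, hs.bilinear.add_right, hs.bilinear.smul_right,
      fun _ => rfl, one_mul 1, rfl, fun x y => by rw [RingHom.id_apply, hs.skew y x]; ring,
      fun v hv => by
        by_contra h
        obtain ⟨x, hx⟩ := (hs.nondegenerate v h).1
        exact hx (hv x)⟩
  have hp : LagPair.IsPair (sympForm 2 F) 2 (D 0) (D 1) := by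
    refine ⟨⟨hD.indep.pairwiseDisjoint (by decide), codisjoint_iff.mpr ?_⟩, hts 0, hts 1,
      hD.finrank_eq 0, hD.finrank_eq 1⟩
    rw [eq_top_iff, ← hD.iSup_eq_top, iSup_le_iff]
    exact Fin.forall_fin_two.mpr ⟨le_sup_left, le_sup_right⟩
  have htwo : (2 : F) ≠ 0 := Ring.two_ne_zero fun h => by
    have := FiniteField.even_card_of_char_two h
    have := Nat.odd_iff.mp hodd
    omega
  rw [MaxSub.spGL_eq_isom]
  have hθc : (1 : F) * RingHom.id F 1 = 1 := by simp
  obtain ⟨w, hwi, hw0, hw1⟩ := LagPair.exists_swap hf hp one_ne_zero hθc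
    (fun _ _ h1 h2 => LagPair.T_mem_isom hf h1 h2) le_rfl
  have hd : Module.finrank F (D 0) = Module.finrank F (D 1) := by rw [hp.fin₁, hp.fin₂]
  refine MaxSub.isMaximalIn_of inf_le_right ?_ fun M hHM hMK g hg hgH => ?_
  · obtain ⟨v, hv, hv0⟩ := (D 0).ne_bot_iff.mp fun h => by
      have := hp.fin₁; rw [h, finrank_bot] at this; omega
    obtain ⟨y, hy, hvy, -⟩ := LagPair.exists_dual_mem hf hp (U := ⊥) hv (by simpa using hv0)
    have hyv : sympForm 2 F y v ≠ 0 := LagPair.swap_ne hf (by rw [hvy]; exact one_ne_zero)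
    have hy0 : y ≠ 0 := fun h => hyv (by rw [h, LagPair.zero_left hf])
    have hvv := hp.iso₁ v hv v hv
    refine ⟨LagPair.T (sympForm 2 F) v 1, LagPair.T_mem_isom hf hvv hθc, fun hmem => ?_⟩
    obtain ⟨σ, hσ⟩ := hmem.1
    have h1 : y + ((1 : F) * sympForm 2 F y v) • v ∈ D (σ 1) := by
      rw [← LagPair.T_mulVec hf hvv, ← hσ 1, Matrix.toLin'_apply']
      exact Submodule.mem_map_of_mem
        (f := Matrix.mulVecLin (LagPair.T (sympForm 2 F) v 1 : Matrix (Fin 2 ⊕ Fin 2) _ F)) hy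
    rcases Fin.exists_fin_two.mp ⟨σ 1, rfl⟩ with hc | hc <;> rw [hc] at h1
    · exact hy0 (hp.eq_zero
        (by simpa using sub_mem h1 ((D 0).smul_mem ((1 : F) * sympForm 2 F y v) hv)) hy)
    · refine hv0 (hp.eq_zero hv ((Submodule.smul_mem_iff _
        (mul_ne_zero one_ne_zero hyv)).mp ?_))
      simpa using sub_mem h1 hy
  exact LagCore.isom_le hs hp hf (fun u hu h0 h1 => hHM ⟨LagPair.mem_stab_of_fix h0 h1, hu⟩) h5
    le_rfl htwo (hHM ⟨LagPair.mem_stab_of_swap hd hw0 hw1, hwi⟩) hw0 hw1 hMK hg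
    (fun h => hgH ⟨LagPair.mem_stab_of_fix h.1 h.2, hMK hg⟩)
    (fun h => hgH ⟨LagPair.mem_stab_of_swap hd h.1 h.2, hMK hg⟩)

end Cfsg.Agent.Sp4Odd
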