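import Cfsg.Agent.SpGeo11.Subfield

/-!
Subfield subgroups of `Sp₄` in odd characteristic are maximal (helper66, after helper77 and helper11).

A further centre with a kernel vector gives a new parameter on a rational centre, and the parameters
of a rational centre form a subfield.
-/

set_option autoImplicit false
set_option linter.unusedSectionVars false

namespace Cfsg.Agent.Sp4Odd

open Matrix Cfsg.Agent Cfsg.Agent.MaxSub Cfsg.Agent.FGS77.SubSp

variable {ι : Type} [Fintype ι] [DecidableEq ι] {F : Type*} [Field F] [Fintype F] {F₀ : Subfield F}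
variable {f : (ι → F) → (ι → F) → F} {P : GL ι F} {M : Subgroup (GL ι F)}

local notation "j" => jmap F₀ P

variable (hR : RatForm f F₀ P) (hle : M ≤ isom f)
  (hrat : ∀ (u : ι → F₀) (s : F), s ∈ F₀ → st f (jmap F₀ P u) s ∈ M)
include hR hle hrat

theorem conj_mem {g : GL ι F} (hg : g ∈ M) {v : ι → F} {c : F} (h : st f v c ∈ M) :
    st f ((g : Matrix ι ι F) *ᵥ v) c ∈ M :=
  st_conj hR.symp (hle hg) v c ▸ mul_mem (mul_mem hg h) (inv_mem hg)

/-- Rational transvections are transitive on the non-zero rational vectors. -/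
theorem exists_move {a b : ι → F₀} (ha : a ≠ 0) (hb : b ≠ 0) :
    ∃ g ∈ M, (g : Matrix ι ι F) *ᵥ j a = j b := by
  have hf := hR.symp
  have step : ∀ x y : ι → F₀, f (j x) (j y) ≠ 0 → ∃ g ∈ M, (g : Matrix ι ι F) *ᵥ j x = j y := by
    intro x y hxy
    refine ⟨st f (j (y - x)) (f (j x) (j y))⁻¹, hrat _ _ (inv_mem (hR.rat _ _)), ?_⟩
    rw [st_mulVec hf, map_sub, form_sub_right hf.bilinear, hf.alternating, sub_zero,
      inv_mul_cancel₀ hxy, one_smul, add_sub_cancel]
  obtain ⟨x, hx⟩ := exists_dual_one hR ha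
  obtain ⟨y, hy⟩ := exists_dual_one hR hb
  obtain ⟨z, -, hz1, hz2⟩ := exists_mem_notMem_notMem (P := (⊤ : Submodule F₀ (ι → F₀)))
    (Q := LinearMap.ker (bmap hR a)) (R := LinearMap.ker (bmap hR b))
    ⟨x, trivial, fun h => one_ne_zero (α := F) (hx.symm.trans ((bmap_eq_zero hR).mp h))⟩
    ⟨y, trivial, fun h => one_ne_zero (α := F) (hy.symm.trans ((bmap_eq_zero hR).mp h))⟩
  rw [LinearMap.mem_ker, bmap_eq_zero] at hz1 hz2
  obtain ⟨g, hg, hga⟩ := step a z hz1
  obtain ⟨g', hg', hgz⟩ := step z b (fun h => hz2 (swap_zero hf h))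
  exact ⟨g' * g, mul_mem hg' hg, by rw [Units.val_mul, ← mulVec_mulVec, hga, hgz]⟩

/-- A parameter of one rational centre is a parameter of all. -/
theorem param_all {e : ι → F₀} (he : e ≠ 0) {c : F} (h : st f (j e) c ∈ M) (u : ι → F₀) :
    st f (j u) c ∈ M := by
  by_cases hu : u = 0
  · subst hu
    rw [map_zero, show st f (0 : ι → F) c = 1 by simp [MaxSub.st]]
    exact one_mem _
  obtain ⟨g, hg, hge⟩ := exists_move hR hle hrat he hu
  exact hge ▸ conj_mem hR hle hrat hg h

theorem sh_mem {w e : ι → F₀} (hwe : f (j w) (j e) = 0) {s : F}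
    (hs : ∀ u, st f (j u) s ∈ M) : sh f (j w) (j e) s ∈ M := by
  rw [← sh_eq_st hR.symp hwe, ← map_add]
  exact mul_mem (mul_mem (hs _) (st_neg_mem hR.symp (hs _))) (st_neg_mem hR.symp (hs _))

variable (hdim : 3 < Fintype.card ι)
include hdim

/-- The parameters are closed under `(s, t) ↦ 2 s² t`. -/
theorem param_sq {s t : F} (hs : ∀ u, st f (j u) s ∈ M) (ht : ∀ u, st f (j u) t ∈ M) (u : ι → F₀) :
    st f (j u) (2 * (s * s) * t) ∈ M := by
  have hf := hR.symp
  obtain ⟨e, -, he⟩ := exists_perp_notMem hR (fun i : Fin 0 => i.elim0) (fun i : Fin 0 => i.elim0)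
    (by omega : 0 + 0 < Fintype.card ι)
  have he0 : e ≠ 0 := fun h => he (h ▸ zero_mem _)
  obtain ⟨w, hw, hwn⟩ := exists_perp_notMem hR ![e] ![e] (by omega)
  obtain ⟨h, hh, hwh⟩ := exists_dual hR ![e] hwn
  have hew : f (j e) (j w) = 0 := hw 0
  have hwe : f (j w) (j e) = 0 := swap_zero hf hew
  have heh : f (j e) (j h) = 0 := hh 0
  have hhe : f (j h) (j e) = 0 := swap_zero hf heh
  have himg : ∀ c, (sh f (j w) (j e) c : Matrix ι ι F) *ᵥ j h = j h + (-c) • j e := fun c => by
    rw [sh_mulVec hf hwe, hhe, swap hf (j h) (j w), hwh]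
    module
  have h1 := conj_mem hR hle hrat (sh_mem hR hle hrat hwe hs) (ht h)
  have h2 := conj_mem hR hle hrat
    (sh_mem hR hle hrat hwe fun u => st_neg_mem hf (hs u)) (ht h)
  rw [himg] at h1 h2
  refine param_all hR hle hrat he0 ?_ u
  have key : st f (j h + (-s) • j e) t * st f (j h + (- -s) • j e) t * st f (j h) (-(2 * t)) =
      st f (j e) (2 * (s * s) * t) := by
    refine gl_ext fun x => ?_
    simp only [Units.val_mul, ← mulVec_mulVec, st_mulVec hf, hf.bilinear.add_left,
      hf.bilinear.add_right, hf.bilinear.smul_left, hf.bilinear.smul_right, hf.alternating, hhe,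
      heh]
    module
  rw [← key, two_mul t, neg_add, ← st_mul hf]
  exact mul_mem (mul_mem h1 h2) (mul_mem (st_neg_mem hf (ht h)) (st_neg_mem hf (ht h)))

/-- One new parameter gives all. -/
theorem param_top (h2 : (2 : F) ≠ 0) (hmax : ∀ T : Subfield F, F₀ ≤ T → T = F₀ ∨ T = ⊤) {s₀ : F}
    (hs₀ : s₀ ∉ F₀) (h : ∀ u, st f (j u) s₀ ∈ M) (u : ι → F₀) (c : F) : st f (j u) c ∈ M := by
  have hf := hR.symp
  let Good : F → Prop := fun c => ∀ u, st f (j u) c ∈ M
  have hadd : ∀ a b, Good a → Good b → Good (a + b) := fun a b ha hb u =>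
    st_mul hf (j u) a b ▸ mul_mem (ha u) (hb u)
  have hneg : ∀ a, Good a → Good (-a) := fun a ha u => st_neg_mem hf (ha u)
  have hF₀ : ∀ a ∈ F₀, Good a := fun a ha u => hrat u a ha
  have hfour : ∀ a b, Good a → Good b → Good (4 * a * b) := fun a b ha hb => by
    have e1 := param_sq hR hle hrat hdim (hadd a 1 ha (hF₀ 1 (one_mem _))) hb
    have e2 := param_sq hR hle hrat hdim ha hb
    have e3 := param_sq hR hle hrat hdim (hF₀ 1 (one_mem _)) hb
    have := hadd _ _ (hadd _ _ e1 (hneg _ e2)) (hneg _ e3)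
    rwa [show 2 * ((a + 1) * (a + 1)) * b + -(2 * (a * a) * b) + -(2 * (1 * 1) * b) = 4 * a * b by
      ring] at this
  have h4 : (4 : F) ≠ 0 := by
    rw [show (4 : F) = 2 * 2 by norm_num]; exact mul_ne_zero h2 h2
  have h4m : (4 : F)⁻¹ ∈ F₀ := inv_mem (ofNat_mem F₀ 4)
  have hmul : ∀ a b, Good a → Good b → Good (a * b) := fun a b ha hb => by
    have := hfour _ _ (hfour _ _ ha hb) (hF₀ _ (mul_mem h4m h4m))
    rwa [show 4 * (4 * a * b) * ((4 : F)⁻¹ * (4 : F)⁻¹) = a * b by field_simp] at this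
  let T : Subfield F :=
    { carrier := {t | Good t}
      zero_mem' := hF₀ 0 (zero_mem _)
      one_mem' := hF₀ 1 (one_mem _)
      add_mem' := fun ha hb => hadd _ _ ha hb
      mul_mem' := fun ha hb => hmul _ _ ha hb
      neg_mem' := fun ha => hneg _ ha
      inv_mem' := fun a ha => by
        show Good a⁻¹
        by_cases ha0 : a = 0
        · rw [ha0, _root_.inv_zero]; exact hF₀ 0 (zero_mem _)
        have hq : 2 ≤ Fintype.card F := Fintype.one_lt_card
        have hpow : ∀ n : ℕ, Good (a ^ n) := fun n => by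
          induction n with
          | zero => rw [pow_zero]; exact hF₀ 1 (one_mem _)
          | succ n ih => rw [pow_succ]; exact hmul _ _ ih ha
        rw [show a⁻¹ = a ^ (Fintype.card F - 2) from inv_eq_of_mul_eq_one_right (by
          rw [← pow_succ', show Fintype.card F - 2 + 1 = Fintype.card F - 1 by omega,
            FiniteField.pow_card_sub_one_eq_one a ha0])]
        exact hpow _ }
  have hT : T = ⊤ := (hmax T hF₀).resolve_left fun e => hs₀ (e ▸ (show s₀ ∈ T from h))
  exact (show c ∈ T from hT ▸ trivial) u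

/-- A centre with two values and a kernel vector gives a new parameter. -/
theorem param_of_kernel (h2 : (2 : F) ≠ 0) {v : ι → F} (hv : st f v 1 ∈ M)
    (htwo : TwoValues f F₀ P v) {e₀ : ι → F₀} (he₀ : e₀ ≠ 0) (hve₀ : f v (j e₀) = 0) :
    ∃ s, s ∉ F₀ ∧ ∀ u, st f (j u) s ∈ M := by
  have hf := hR.symp
  obtain ⟨e, z, hze, hve, he0, hz2⟩ : ∃ e z : ι → F₀, f (j z) (j e) = 0 ∧ f v (j e) = 0 ∧ e ≠ 0 ∧
      f v (j z) * f v (j z) ∉ F₀ := by
    by_contra hc
    push Not at hc
    have hsq : ∀ e z : ι → F₀, e ≠ 0 → f v (j e) = 0 → f (j z) (j e) = 0 →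
        f v (j z) * f v (j z) ∈ F₀ := fun e z he hve hze => hc e z hze hve he
    have hprod : ∀ e z z' : ι → F₀, e ≠ 0 → f v (j e) = 0 → f (j z) (j e) = 0 →
        f (j z') (j e) = 0 → f v (j z) * f v (j z') ∈ F₀ := fun e z z' he hve h h' => by
      have h3 := hsq e (z + z') he hve (by rw [map_add, hf.bilinear.add_left, h, h', add_zero])
      rw [map_add, hf.bilinear.add_right] at h3
      convert div_mem (sub_mem (sub_mem h3 (hsq e z he hve h)) (hsq e z' he hve h'))
        (ofNat_mem F₀ 2) using 1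
      field_simp
      ring
    by_cases hK : ∃ e', f v (j e') = 0 ∧ e' ∉ Submodule.span F₀ (Set.range ![e₀])
    · obtain ⟨e', hve', hn⟩ := hK
      have hall : ∀ z, f v (j z) * f v (j z) ∈ F₀ := fun z => by
        by_cases h0 : f (j z) (j e₀) = 0
        · exact hsq e₀ z he₀ hve₀ h0
        set c : F₀ := bmap hR z e' / bmap hR z e₀
        refine hsq (e' - c • e₀) z (sub_ne_zero.mpr fun h => hn (h ▸ Submodule.smul_mem _ _
          (Submodule.subset_span ⟨0, rfl⟩))) ?_ ((bmap_eq_zero hR).mp ?_)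
        · rw [map_sub, form_sub_right hf.bilinear, f_smul_right hR, hve', hve₀, mul_zero, sub_self]
        · rw [map_sub, map_smul, smul_eq_mul,
            div_mul_cancel₀ _ (fun h => h0 ((bmap_eq_zero hR).mp h)), sub_self]
      obtain ⟨x₁, x₂, h1, h3⟩ := htwo
      refine h3 ?_
      have h5 := hall (x₁ + x₂)
      rw [map_add, hf.bilinear.add_right] at h5
      convert div_mem (div_mem (sub_mem (sub_mem h5 (hall x₁)) (hall x₂)) (hall x₁))
        (ofNat_mem F₀ 2) using 1
      field_simp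
      ring
    · push Not at hK
      obtain ⟨z₁, hz₁, hz₁n⟩ := exists_perp_notMem hR ![e₀] ![e₀] (by omega)
      have hz₁v : f v (j z₁) ≠ 0 := fun h => hz₁n (hK z₁ h)
      obtain ⟨z₂, hz₂, hz₂n⟩ := exists_perp_notMem hR ![e₀] ![e₀, z₁] (by omega)
      have p1 := hprod e₀ z₂ z₁ he₀ hve₀ (swap_zero hf (hz₂ 0)) (swap_zero hf (hz₁ 0))
      have p2 := hprod e₀ z₁ z₁ he₀ hve₀ (swap_zero hf (hz₁ 0)) (swap_zero hf (hz₁ 0))
      have hd := div_mem p1 p2
      rw [mul_div_mul_right _ _ hz₁v] at hd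
      set c : F₀ := ⟨_, hd⟩ with hc'
      have hm := hK (z₂ - c • z₁) (by
        rw [map_sub, form_sub_right hf.bilinear, f_smul_right hR, hc', div_mul_cancel₀ _ hz₁v,
          sub_self])
      refine hz₂n ?_
      have h6 : z₂ - c • z₁ ∈ Submodule.span F₀ (Set.range ![e₀, z₁]) :=
        Submodule.span_mono (by simp [Matrix.range_cons]) hm
      simpa using add_mem h6 (Submodule.smul_mem _ c (Submodule.subset_span ⟨1, rfl⟩))
  set a := f v (j z)
  have ha : a ≠ 0 := fun h => hz2 (by rw [h, mul_zero]; exact zero_mem _)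
  have hσ : sh f (j z) (j e) 1 ∈ M := sh_mem hR hle hrat hze fun u => hrat u 1 (one_mem _)
  have hτ := hrat z 1 (one_mem F₀)
  have h1 : st f (v + a • j e) 1 ∈ M := by
    have := conj_mem hR hle hrat hσ hv
    rwa [sh_mulVec hf hze, hve, one_mul, mul_zero, zero_smul, add_zero] at this
  have h2' : st f (v + a • j z) 1 ∈ M := by
    have := conj_mem hR hle hrat hτ hv
    rwa [st_mulVec hf, one_mul] at this
  have h3 : st f (v + a • j z + a • j e) 1 ∈ M := by
    have := conj_mem hR hle hrat hτ h1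
    rwa [mulVec_add, mulVec_smul, st_mulVec hf, st_mulVec hf, one_mul, one_mul,
      swap_zero hf hze, zero_smul, add_zero] at this
  set s := -(a * a)
  have hze1 : st f (j z + s • j e) 1 ∈ M := by
    have hd := second_diff hf (v := v) (y := a • j e) (z := j z)
      (by rw [hf.bilinear.smul_right, hve, mul_zero])
      (by rw [hf.bilinear.smul_right, hze, mul_zero])
    have hm := mul_mem (mul_mem h3 (st_neg_mem hf h2'))
      (inv_mem (mul_mem h1 (st_neg_mem hf hv)))
    rw [hd, smul_smul, show -a * a = s by ring] at hm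
    have := mul_mem hm (inv_mem hτ)
    rw [mul_inv_cancel_right] at this
    simpa using st_neg_mem hf this
  have hzn : z ∉ Submodule.span F₀ (Set.range ![e]) := fun h => by
    obtain ⟨c, hc⟩ : ∃ c : F₀, c • e = z := by
      simpa [Matrix.range_cons, Matrix.range_empty, Submodule.mem_span_singleton] using h
    exact ha (by simp only [a, ← hc]; rw [f_smul_right hR, hve, mul_zero])
  obtain ⟨u, hu, hzu⟩ := exists_dual hR ![e] hzn
  have heu : f (j e) (j u) = 0 := hu 0
  have hh4 : st f (j (z + e) + s • j e) 1 ∈ M := by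
    have hg : sh f (j e) (j u) 1 ∈ M := sh_mem hR hle hrat heu fun u => hrat u 1 (one_mem _)
    have := conj_mem hR hle hrat hg hze1
    rwa [mulVec_add, mulVec_smul, sh_mulVec hf heu, sh_mulVec hf heu, hze, hzu, heu,
      hf.alternating, mul_zero, zero_smul, zero_smul, add_zero, add_zero, mul_one, one_smul, add_zero,
      ← map_add] at this
  refine ⟨2 * s, fun h => hz2 ?_, param_all hR hle hrat he0 ?_⟩
  · have := neg_mem (div_mem h (ofNat_mem F₀ 2))
    rwa [mul_div_cancel_left₀ _ h2, neg_neg] at this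
  · have hez := swap_zero hf hze
    have key : st f (j (z + e) + s • j e) 1 * st f (j z + s • j e) (-1) *
        (st f (j (z + e)) (-1) * st f (j z) 1) = st f (j e) (2 * s) := by
      refine gl_ext fun x => ?_
      simp only [map_add, Units.val_mul, ← mulVec_mulVec, st_mulVec hf, hf.bilinear.add_left,
        hf.bilinear.add_right, hf.bilinear.smul_left, hf.bilinear.smul_right, hf.alternating, hze,
        hez]
      module
    rw [← key]
    exact mul_mem (mul_mem hh4 (st_neg_mem hf hze1))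
      (mul_mem (hrat _ _ (neg_mem (one_mem _))) hτ)

/-- In odd characteristic an injective centre gives all rational centres. -/
theorem rat_centres_of_odd (p : ℕ) [Fact p.Prime] [CharP F p] (hp : p ≠ 2)
    (hquad : ∀ t u w : F, u ∈ F₀ → w ∈ F₀ → t ^ 2 + u * t + w = 0 → t ∈ F₀)
    (hmax : ∀ T : Subfield F, F₀ ≤ T → T = F₀ ∨ T = ⊤) {v : ι → F} (hv : RatCentre f F₀ M v)
    (htwo : TwoValues f F₀ P v) (u : ι → F₀) (c : F) : st f (j u) c ∈ M := by
  have hf := hR.symp
  obtain ⟨e, he⟩ : ∃ e, f v (j e) ^ 2 ∉ F₀ := by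
    by_contra hc
    simp only [not_exists, not_not] at hc
    obtain ⟨x₁, x₂, h1, h2⟩ := htwo
    refine h2 ?_
    have h3 := hc (x₁ + x₂)
    rw [map_add, hf.bilinear.add_right] at h3
    have h2' : (2 : F) ≠ 0 := PLocalB.two_ne_zero_char (p := p) hp
    have h4 := div_mem (div_mem (sub_mem (sub_mem h3 (hc x₁)) (hc x₂)) (hc x₁)) (ofNat_mem F₀ 2)
    convert h4 using 1
    field_simp
    ring
  set a := f v (j e)
  have ha : a ≠ 0 := fun h => he (by rw [h, zero_pow two_ne_zero]; exact zero_mem _)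
  have hpair : f v (a⁻¹ • j e) = 1 := by rw [hf.bilinear.smul_right, inv_mul_cancel₀ ha]
  have hall := lower_mem_all p hp F₀ hquad hmax he (M.comap (planeHom hf hpair))
    (fun s hs => by
      rw [Subgroup.mem_comap, planeHom_upper]
      exact hv _ (neg_mem hs))
    (fun s hs => by
      rw [Subgroup.mem_comap, planeHom_lower, st_smul hf,
        show a⁻¹ * a⁻¹ * (a ^ 2 * s) = s by field_simp]
      exact hrat e s hs)
  have hee : ∀ c, st f (j e) c ∈ M := fun c => by
    have := hall (a ^ 2 * c)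
    rw [Subgroup.mem_comap, planeHom_lower, st_smul hf,
      show a⁻¹ * a⁻¹ * (a ^ 2 * c) = c by field_simp] at this
    exact this
  by_cases hu : u = 0
  · subst hu
    rw [map_zero, show st f (0 : ι → F) c = 1 by simp [MaxSub.st]]
    exact one_mem _
  have he0 : e ≠ 0 := fun h => ha (by
    simp only [a, h, map_zero, form_zero_right hf.bilinear])
  obtain ⟨g, hg, hge⟩ := exists_move hR hle hrat he0 hu
  rw [← hge]
  exact conj_mem hR hle hrat hg (hee c)

/-- Complete rational centres give complete centres everywhere. -/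
theorem all_centres (h4 : 4 ≤ Fintype.card F) (hrc : ∀ (u : ι → F₀) (c : F), st f (j u) c ∈ M)
    (v : ι → F) : v ∈ centres f M := by
  classical
  have hf := hR.symp
  have hzero : (0 : ι → F) ∈ centres f M := fun c => by simpa [MaxSub.st] using one_mem M
  have key : ∀ v ∈ centres f M, ∀ (w : ι → F₀) (a : F), v + a • j w ∈ centres f M := by
    intro v hv w a
    have hw : j w ∈ centres f M := fun c => hrc w c
    by_cases hv0 : v = 0
    · rw [hv0, zero_add]; exact smul_mem_centres hf hw a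
    by_cases hw0 : j w = 0
    · rwa [hw0, smul_zero, add_zero]
    by_cases hu : v + a • j w = 0
    · rw [hu]; exact hzero
    by_cases hvw : f v (j w) ≠ 0
    · exact add_smul_mem_centres hf hv hw hvw a
    rw [not_not] at hvw
    have hne : ∀ x : ι → F, x ≠ 0 → ∃ p : ι → F₀, f x (j p) ≠ 0 := fun x hx => by
      by_contra hc
      simp only [not_exists, not_not] at hc
      exact hx (eq_zero_of_form hR hc)
    obtain ⟨p, -, hpv, hpw⟩ := exists_mem_notMem_notMem (P := (⊤ : Submodule F₀ (ι → F₀)))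
      (Q := LinearMap.ker (phi hR v)) (R := LinearMap.ker (phi hR (j w)))
      (let ⟨p, hp⟩ := hne v hv0; ⟨p, trivial, hp⟩)
      (let ⟨p, hp⟩ := hne _ hw0; ⟨p, trivial, hp⟩)
    simp only [LinearMap.mem_ker, phi_apply] at hpv hpw
    have hp0 : j p ≠ 0 := fun h => hpv (by rw [h, form_zero_right hf.bilinear])
    obtain ⟨q, -, hqp, hqu⟩ := exists_mem_notMem_notMem (P := (⊤ : Submodule F₀ (ι → F₀)))
      (Q := LinearMap.ker (phi hR (j p))) (R := LinearMap.ker (phi hR (v + a • j w)))
      (let ⟨q, hq⟩ := hne _ hp0; ⟨q, trivial, hq⟩)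
      (let ⟨q, hq⟩ := hne _ hu; ⟨q, trivial, hq⟩)
    simp only [LinearMap.mem_ker, phi_apply] at hqp hqu
    let bad : (ι → F) → F := fun x => -f x (j p) / f x (j q)
    obtain ⟨l, hl⟩ : ∃ l : F, l ∉ ({bad v, bad (j w), bad (v + a • j w)} : Finset F) := by
      by_contra hc
      simp only [not_exists, not_not] at hc
      have := Finset.card_le_card (fun l _ => hc l : (Finset.univ : Finset F) ⊆ _)
      have h3 := Finset.card_le_three (a := bad v) (b := bad (j w)) (c := bad (v + a • j w))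
      rw [Finset.card_univ] at this
      omega
    simp only [Finset.mem_insert, Finset.mem_singleton, not_or] at hl
    have hne' : ∀ x, l ≠ bad x → (f x (j q) = 0 → f x (j p) ≠ 0) →
        f x (j p + l • j q) ≠ 0 := by
      intro x hx hpq h
      rw [hf.bilinear.add_right, hf.bilinear.smul_right] at h
      by_cases hq : f x (j q) = 0
      · exact hpq hq (by simpa [hq] using h)
      · exact hx (by simp only [bad]; rw [eq_div_iff hq]; linear_combination h)
    set h := j p + l • j q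
    have hh : h ∈ centres f M :=
      add_smul_mem_centres hf (fun c => hrc p c) (fun c => hrc q c) hqp l
    have g1 : f v h ≠ 0 := hne' v hl.1 fun _ => hpv
    have g2 : f (j w) h ≠ 0 := hne' _ hl.2.1 fun _ => hpw
    have g3 : f (v + a • j w) h ≠ 0 := hne' _ hl.2.2 fun hq => absurd hq hqu
    have c1 := add_smul_mem_centres hf hv hh g1 1
    rw [one_smul] at c1
    have c2 := add_smul_mem_centres hf c1 hw (by
      rw [hf.bilinear.add_left, hvw, zero_add, swap hf]; exact neg_ne_zero.mpr g2) a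
    have c3 := add_smul_mem_centres hf c2 hh (by
      rw [show v + h + a • j w = (v + a • j w) + h by abel, hf.bilinear.add_left, hf.alternating,
        add_zero]
      exact g3) (-1)
    convert c3 using 1
    module
  suffices ∀ s : Finset ι, ∀ x : ι → F,
      ∑ i ∈ s, x i • ((P : Matrix ι ι F) *ᵥ Pi.single i 1) ∈ centres f M by
    have h := this Finset.univ (((P⁻¹ : GL ι F) : Matrix ι ι F) *ᵥ v)
    simp_rw [← mulVec_smul] at h
    rwa [← mulVec_sum, ← pi_eq_sum_univ', mulVec_inv_mulVec] at h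
  intro s
  induction s using Finset.induction_on with
  | empty => intro x; rw [Finset.sum_empty]; exact hzero
  | insert i s hi ih =>
    intro x
    rw [Finset.sum_insert hi, add_comm, ← jmap_single (F₀ := F₀)]
    exact key _ (ih x) _ _

/-- The whole isometry group lies in `M`. -/
theorem isom_le (p : ℕ) [Fact p.Prime] [CharP F p] (hp : p ≠ 2) (h4 : 4 ≤ Fintype.card F)
    (hmax : ∀ T : Subfield F, F₀ ≤ T → T = F₀ ∨ T = ⊤)
    (hquad : (∃ v : ι → F, ∀ u : ι → F₀, u ≠ 0 → f v (j u) ≠ 0) →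
      ∀ t u w : F, u ∈ F₀ → w ∈ F₀ → t ^ 2 + u * t + w = 0 → t ∈ F₀)
    {v : ι → F} (hv : RatCentre f F₀ M v) (htwo : TwoValues f F₀ P v) : isom f ≤ M := by
  refine isom_le_of_st_mem hR.symp fun w c => all_centres hR hle hrat hdim h4 (fun u c => ?_) w c
  by_cases hk : ∃ e : ι → F₀, e ≠ 0 ∧ f v (j e) = 0
  · obtain ⟨e, he, hve⟩ := hk
    have h2 : (2 : F) ≠ 0 := PLocalB.two_ne_zero_char (p := p) hp
    obtain ⟨s, hs, hall⟩ :=
      param_of_kernel hR hle hrat hdim h2 (hv 1 (one_mem _)) htwo he hve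
    exact param_top hR hle hrat hdim h2 hmax hs hall u c
  · simp only [not_exists, not_and] at hk
    exact rat_centres_of_odd hR hle hrat hdim p hp (hquad ⟨v, fun e he => hk e he⟩) hmax hv htwo u c

end Cfsg.Agent.Sp4Odd

namespace Cfsg.Agent.Sp4Odd

open Matrix Cfsg Cfsg.Agent Cfsg.Agent.MaxSub Cfsg.Agent.FGS77.SubSp

theorem subfield_maximal_aux {F : Type*} [Field F] [Fintype F] (hodd : Odd (Fintype.card F)) (m : ℕ)
    (hm : 2 ≤ m) :
    ∀ (F₀ : Subfield F) (r : ℕ) (P : Matrix.GeneralLinearGroup (Fin m ⊕ Fin m) F) (ζ : F), r.Prime → Fintype.card F = Nat.card F₀ ^ r → ζ ≠ 0 → Cfsg.Geo.IsFormRationalStructure (Cfsg.sympForm m F) F₀ ζ P → Cfsg.Geo.IsMaximalIn (Cfsg.spGL m F) (Cfsg.Geo.subfieldSubgroup F₀ P ⊓ Cfsg.spGL m F) := by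
  intro F₀ r P ζ hr hcard hζ hP
  classical
  obtain ⟨p₀, hchar⟩ := CharP.exists F
  haveI : Fact p₀.Prime := ⟨CharP.char_is_prime F p₀⟩
  have hp₀ : p₀ ≠ 2 := fun h => by
    subst h
    exact Nat.not_odd_iff_even.mpr (Nat.even_iff.mpr (FiniteField.even_card_of_char_two
      (ringChar.eq F 2))) hodd
  set f' : (Fin m ⊕ Fin m → F) → (Fin m ⊕ Fin m → F) → F :=
    fun u v => ζ * Cfsg.sympForm m F u v with hf'
  have hs := isSymplecticForm_sympForm (F := F) m
  have hsymp : Geo.IsSymplecticForm f' := by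
    refine ⟨⟨fun x y v => ?_, fun c x v => ?_, fun v x y => ?_, fun c v x => ?_⟩, fun v w => ?_,
      fun v => ?_, fun v hv => ?_⟩
    · simp only [hf', hs.bilinear.add_left, mul_add]
    · simp only [hf', hs.bilinear.smul_left]; ring
    · simp only [hf', hs.bilinear.add_right, mul_add]
    · simp only [hf', hs.bilinear.smul_right]; ring
    · simp only [hf']; rw [hs.skew v w]; ring
    · simp only [hf', hs.alternating, mul_zero]
    · obtain ⟨⟨x, hx⟩, ⟨y, hy⟩⟩ := hs.nondegenerate v hv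
      exact ⟨⟨x, mul_ne_zero hζ hx⟩, ⟨y, mul_ne_zero hζ hy⟩⟩
  have hisom : isom f' = Cfsg.spGL m F := by
    rw [spGL_eq_isom]
    ext g
    rw [mem_isom, mem_isom]
    simp only [hf', mul_right_inj' hζ]
  have hR : RatForm f' F₀ P := ⟨hsymp, fun u w => hP _ _ (fun i => (u i).2) (fun i => (w i).2)⟩
  have hjrat : ∀ w, SubfieldTwo.Rat F₀ P (jmap F₀ P w) := fun w =>
    SubfieldTwo.rat_iff.mpr ⟨_, fun i => (w i).2, rfl⟩
  have hratj : ∀ x, SubfieldTwo.Rat F₀ P x → ∃ w, jmap F₀ P w = x := fun x hx => by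
    obtain ⟨u, hu, rfl⟩ := SubfieldTwo.rat_iff.mp hx
    exact ⟨fun i => ⟨u i, hu i⟩, rfl⟩
  have hfr : Module.finrank F₀ F = r := by
    have h := Module.natCard_eq_pow_finrank (K := F₀) (V := F)
    rw [Nat.card_eq_fintype_card (α := F), hcard] at h
    exact Nat.pow_right_injective (Finite.one_lt_card (α := F₀)) h.symm
  have h4 : 4 ≤ Fintype.card F := by
    rw [hcard]
    calc 4 = 2 ^ 2 := rfl
      _ ≤ Nat.card F₀ ^ 2 := Nat.pow_le_pow_left (Finite.one_lt_card (α := F₀)) 2
      _ ≤ _ := Nat.pow_le_pow_right (Nat.card_pos) hr.two_le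
  rw [← hisom]
  have hHrat : ∀ (u : Fin m ⊕ Fin m → F₀) (s : F), s ∈ F₀ →
      st f' (jmap F₀ P u) s ∈ Geo.subfieldSubgroup F₀ P ⊓ isom f' := fun u s hsF => by
    refine ⟨SubfieldTwo.mem_of_rat one_ne_zero fun x hx => ?_, st_mem_isom hsymp _ _⟩
    obtain ⟨w, rfl⟩ := hratj x hx
    rw [one_smul, st_mulVec hsymp]
    exact SubfieldTwo.rat_add (hjrat w)
      (SubfieldTwo.rat_smul (mul_mem hsF (hR.rat w u)) (hjrat u))
  have hdim : Fintype.card (Fin m ⊕ Fin m) = m + m := by simp
  refine MaxSub.isMaximalIn_of inf_le_right ?_ fun M hHM hMG g hg hgH => ?_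
  · obtain ⟨c, hc⟩ : ∃ c : F, c ∉ F₀ := by
      by_contra hc
      simp only [not_exists, not_not] at hc
      have : Nat.card F₀ = Fintype.card F := by
        rw [← Nat.card_eq_fintype_card]
        exact Nat.card_congr (Equiv.subtypeUnivEquiv hc)
      have h2 : Nat.card F₀ ^ 1 = Nat.card F₀ ^ r := by rw [pow_one, ← hcard, this]
      exact hr.one_lt.ne (Nat.pow_right_injective (Finite.one_lt_card (α := F₀)) h2)
    set p : Fin m ⊕ Fin m → F₀ := Pi.single (Sum.inl ⟨0, by omega⟩) 1 with hp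
    have hp0 : p ≠ 0 := by simp [hp]
    obtain ⟨h, hph⟩ := exists_dual_one hR hp0
    refine ⟨st f' (jmap F₀ P p) c, st_mem_isom hsymp _ _, fun hmem => hc ?_⟩
    obtain ⟨a, ha, hag⟩ := SubfieldTwo.rat_of_mem hmem.1
    obtain ⟨w₁, hw₁⟩ := hratj _ (hag _ (hjrat p))
    obtain ⟨w₂, hw₂⟩ := hratj _ (hag _ (hjrat h))
    rw [st_mulVec hsymp, hsymp.alternating, mul_zero, zero_smul, add_zero] at hw₁
    rw [st_mulVec hsymp, hsymp.skew (jmap F₀ P h), hph] at hw₂
    have ha1 : a ∈ F₀ := by
      have := congrArg (fun x => f' x (jmap F₀ P h)) hw₁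
      simp only [hsymp.bilinear.smul_left, hph, mul_one] at this
      rw [← this]; exact hR.rat _ _
    have hac : a * c ∈ F₀ := by
      have := congrArg (fun x => f' x (jmap F₀ P h)) hw₂
      simp only [hsymp.bilinear.smul_left, hsymp.bilinear.add_left, hsymp.alternating, hph] at this
      have h3 : a * c = -f' (jmap F₀ P w₂) (jmap F₀ P h) := by rw [this]; ring
      rw [h3]; exact neg_mem (hR.rat _ _)
    have := div_mem hac ha1
    rwa [mul_div_cancel_left₀ _ ha] at this
  · have hrat' : ∀ u s, s ∈ F₀ → st f' (jmap F₀ P u) s ∈ M := fun u s hsF => hHM (hHrat u s hsF)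
    obtain ⟨p, hp⟩ : ∃ p, TwoValues f' F₀ P ((g : Matrix _ _ F) *ᵥ jmap F₀ P p) := by
      by_contra hc
      simp only [not_exists] at hc
      choose lam q hq using fun p => exists_smul_of_not_twoValues hR (hc p)
      have hmul : ∀ p h, f' (jmap F₀ P p) (jmap F₀ P h) ≠ 0 →
          lam p * lam h ∈ F₀ ∧ lam p * lam h ≠ 0 := fun p h hne => by
        have e : lam p * lam h * f' (jmap F₀ P (q p)) (jmap F₀ P (q h)) =
            f' (jmap F₀ P p) (jmap F₀ P h) := by
          rw [← mem_isom.mp (hMG hg) (jmap F₀ P p) (jmap F₀ P h), hq, hq,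
            hsymp.bilinear.smul_left, hsymp.bilinear.smul_right]
          ring
        rw [← e] at hne
        refine ⟨?_, left_ne_zero_of_mul hne⟩
        have := div_mem (e ▸ hR.rat p h) (hR.rat (q p) (q h))
        rwa [mul_div_cancel_right₀ _ (right_ne_zero_of_mul hne)] at this
      set p0 : Fin m ⊕ Fin m → F₀ := Pi.single (Sum.inl ⟨0, by omega⟩) 1 with hp0'
      have hp0 : p0 ≠ 0 := by simp [hp0']
      have hl0 : lam p0 ≠ 0 := fun h => by
        have := hq p0
        rw [h, zero_smul] at this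
        exact mulVec_ne_zero g (fun e => hp0 (jmap_injective P (e.trans (map_zero _).symm))) this
      refine hgH ⟨SubfieldTwo.mem_of_rat (inv_ne_zero hl0) fun x hx => ?_, hMG hg⟩
      obtain ⟨p, rfl⟩ := hratj x hx
      by_cases hp : p = 0
      · subst hp
        rw [map_zero, mulVec_zero, smul_zero]
        exact SubfieldTwo.rat_zero
      obtain ⟨h1, hh1⟩ := exists_dual_one hR hp
      obtain ⟨h2, hh2⟩ := exists_dual_one hR hp0
      obtain ⟨h, -, ha, hb⟩ := exists_mem_notMem_notMem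
        (P := (⊤ : Submodule F₀ (Fin m ⊕ Fin m → F₀)))
        (Q := LinearMap.ker (bmap hR p)) (R := LinearMap.ker (bmap hR p0))
        ⟨h1, trivial, fun e => by
          rw [LinearMap.mem_ker, bmap_eq_zero, hh1] at e; exact one_ne_zero e⟩
        ⟨h2, trivial, fun e => by
          rw [LinearMap.mem_ker, bmap_eq_zero, hh2] at e; exact one_ne_zero e⟩
      rw [LinearMap.mem_ker, bmap_eq_zero] at ha hb
      obtain ⟨m1, -⟩ := hmul p h ha
      obtain ⟨m2, m2'⟩ := hmul p0 h hb
      have hdiv := div_mem m1 m2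
      rw [mul_div_mul_right _ _ (right_ne_zero_of_mul m2')] at hdiv
      rw [hq, smul_smul, inv_mul_eq_div]
      exact SubfieldTwo.rat_smul hdiv (hjrat _)
    refine isom_le hR hMG hrat' (by omega) p₀ hp₀ h4
      (SpGeo11.Subfield.subfield_dichotomy F₀ r hr hfr) ?_
      (fun s hsF => conj_mem hR hMG hrat' hg (hrat' p s hsF)) hp
    rintro ⟨v, hv⟩
    refine SpGeo11.Subfield.quadratic_mem F₀ r (hr.odd_of_ne_two ?_) hfr
    have hle : Module.finrank F₀ (Fin m ⊕ Fin m → F₀) ≤ Module.finrank F₀ F :=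
      LinearMap.finrank_le_finrank_of_injective (f := phi hR v) (by
        rw [← LinearMap.ker_eq_bot, Submodule.eq_bot_iff]
        intro u hu
        by_contra h
        exact hv u h hu)
    rw [Module.finrank_pi, hfr, hdim] at hle
    omega

/-- Subfield groups are maximal in `Sp₄(q)`, `q` odd. -/
theorem subfield_maximal {F : Type*} [Field F] [Fintype F] (hodd : Odd (Fintype.card F)) :
    ∀ (F₀ : Subfield F) (r : ℕ) (P : Matrix.GeneralLinearGroup (Fin 2 ⊕ Fin 2) F) (ζ : F), r.Prime → Fintype.card F = Nat.card F₀ ^ r → ζ ≠ 0 → Cfsg.Geo.IsFormRationalStructure (Cfsg.sympForm 2 F) F₀ ζ P → Cfsg.Geo.IsMaximalIn (Cfsg.spGL 2 F) (Cfsg.Geo.subfieldSubgroup F₀ P ⊓ Cfsg.spGL 2 F) :=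
  subfield_maximal_aux hodd 2 le_rfl

end Cfsg.Agent.Sp4Odd
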