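import Cfsg.Agent.Sp6Geom34.UnitaryCore
import Cfsg.Agent.Sp6Geom34.TensorPartial
import Cfsg.Agent.Sp4Odd.Lag

/-!
Overgroups of the unitary group `GU_2(q)` in `Sp_4(q)`, `q ≥ 5` odd (helper34).
-/

set_option autoImplicit false
set_option linter.unusedSectionVars false

namespace Cfsg.Agent.Sp4Odd.UnitCore

open Matrix Cfsg.Agent.MaxSub Cfsg.Agent.UnitaryInSp Cfsg.Agent.OrthStab
open Cfsg.Agent.Sp6Geom34 (word_apply)
open Cfsg.Agent.Sp6Geom34.Unitary (exists_form iso_comb J_indep norm_ne)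

variable {ι : Type} [Fintype ι] [DecidableEq ι] {F : Type*} [Field F]
variable {f : (ι → F) → (ι → F) → F} {J : Matrix ι ι F} {μ : F}

/-- The element acting by the symmetric matrix `(a, b; b, c)` from `V / L` to `L = ⟨v, J v⟩`. -/
noncomputable def U (f : (ι → F) → (ι → F) → F) (J : Matrix ι ι F) (v : ι → F) (a b c : F) :
    GL ι F :=
  st f v (a - b) * st f (J *ᵥ v) (c - b) * st f (v + J *ᵥ v) b

variable (hs : IsSkewGen f J μ)
include hs

theorem U_mulVec {v : ι → F} (hv : f v (J *ᵥ v) = 0) (a b c : F) (x : ι → F) :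
    (U f J v a b c : Matrix ι ι F) *ᵥ x =
      x + (a * f x v + b * f x (J *ᵥ v)) • v + (b * f x v + c * f x (J *ᵥ v)) • (J *ᵥ v) := by
  have hb := hs.symp.bilinear
  have hv' : f (J *ᵥ v) v = 0 := by rw [hs.symp.skew, hv, neg_zero]
  rw [U, Units.val_mul, Units.val_mul, ← mulVec_mulVec, ← mulVec_mulVec, st_mulVec hs.symp,
    st_mulVec hs.symp, st_mulVec hs.symp]
  simp only [hb.add_left, hb.add_right, hb.smul_left, hs.symp.alternating, hv, hv']
  module

theorem U_mul {v : ι → F} (hv : f v (J *ᵥ v) = 0) (a b c a' b' c' : F) :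
    U f J v a b c * U f J v a' b' c' = U f J v (a + a') (b + b') (c + c') := by
  refine gl_ext fun x => ?_
  have hb := hs.symp.bilinear
  have hv' : f (J *ᵥ v) v = 0 := by rw [hs.symp.skew, hv, neg_zero]
  rw [Units.val_mul, ← mulVec_mulVec, U_mulVec hs hv, U_mulVec hs hv, U_mulVec hs hv]
  simp only [hb.add_left, hb.smul_left, hs.symp.alternating, hv, hv']
  module

theorem U_zero {v : ι → F} (hv : f v (J *ᵥ v) = 0) : U f J v 0 0 0 = 1 :=
  gl_ext fun x => by simp [U_mulVec hs hv]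

theorem U_ut {v : ι → F} (hv : f v (J *ᵥ v) = 0) (β : F) :
    U f J v (-(μ * β)) 0 β = ut f J μ v β := by
  refine gl_ext fun x => ?_
  rw [U_mulVec hs hv, ut_mulVec hs hv]
  module

theorem U_st {v : ι → F} (hv : f v (J *ᵥ v) = 0) (p r c : F) :
    U f J v (c * (p * p)) (c * (p * r)) (c * (r * r)) = st f (p • v + r • (J *ᵥ v)) c := by
  refine gl_ext fun x => ?_
  rw [U_mulVec hs hv, st_mulVec hs.symp, hs.symp.bilinear.add_right, hs.symp.bilinear.smul_right,
    hs.symp.bilinear.smul_right]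
  module

theorem U_conj {v : ι → F} (hv : f v (J *ᵥ v) = 0) {k : GL ι F} (hk : k ∈ isom f)
    {p r p' r' : F} (h1 : (k : Matrix ι ι F) *ᵥ v = p • v + r • (J *ᵥ v))
    (h2 : (k : Matrix ι ι F) *ᵥ (J *ᵥ v) = p' • v + r' • (J *ᵥ v)) (a b c : F) :
    k * U f J v a b c * k⁻¹ = U f J v (p * p * a + 2 * (p * p') * b + p' * p' * c)
      (p * r * a + (p * r' + r * p') * b + p' * r' * c)
      (r * r * a + 2 * (r * r') * b + r' * r' * c) := by
  refine gl_ext fun x => ?_
  have hb := hs.symp.bilinear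
  simp only [Units.val_mul, ← mulVec_mulVec, U_mulVec hs hv, mulVec_add, mulVec_smul,
    mulVec_inv_mulVec, LagCore.conj_form hk, h1, h2, hb.add_right, hb.smul_right]
  module

variable [Fintype F] (hn : Fintype.card ι = 4)
include hn

theorem exists_iso : ∃ v, v ≠ 0 ∧ f v (J *ᵥ v) = 0 := by
  obtain ⟨Q, -, hQx, -⟩ := exists_form hs
  obtain ⟨v, -, hv0, hv⟩ := exists_singular_mem (Q := Q) ⊤
    (by rw [finrank_top, Module.finrank_fintype_fun_eq_card]; omega)
  exact ⟨v, hv0, by rw [← hQx, hv]⟩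

/-- A hyperbolic partner over the quadratic field. -/
theorem exists_partner {v : ι → F} (hv : v ≠ 0) (hvi : f v (J *ᵥ v) = 0) :
    ∃ e, f e (J *ᵥ e) = 0 ∧ f v e = 1 ∧ f v (J *ᵥ e) = 0 := by
  have hb := hs.symp.bilinear
  have hμ := mu_ne hs
  obtain ⟨y, hy⟩ := (hs.symp.nondegenerate v hv).2
  set A := f v y
  set B := f v (J *ᵥ y)
  have hne : B * B - μ * (A * A) ≠ 0 := norm_ne hs (Or.inr hy)
  set z := (-(μ * A) / (B * B - μ * (A * A))) • y + (B / (B * B - μ * (A * A))) • (J *ᵥ y) with hz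
  have h1 : f v z = 1 := by
    rw [hz, hb.add_right, hb.smul_right, hb.smul_right, show f v y = A from rfl,
      show f v (J *ᵥ y) = B from rfl, div_eq_mul_inv, div_eq_mul_inv]
    linear_combination mul_inv_cancel₀ hne
  have h2 : f v (J *ᵥ z) = 0 := by
    rw [hz, mulVec_add, mulVec_smul, mulVec_smul, J_J hs, hb.add_right, hb.smul_right,
      hb.smul_right, hb.smul_right, show f v y = A from rfl, show f v (J *ᵥ y) = B from rfl]
    ring
  set t := f z (J *ᵥ z) / (2 * μ) with ht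
  have h3 : f (J *ᵥ v) (J *ᵥ z) = -μ := by rw [f_JJ hs, h1, mul_one]
  have h4 : f z v = -1 := by rw [hs.symp.skew, h1]
  refine ⟨z + t • (J *ᵥ v), ?_, ?_, ?_⟩ <;>
    simp only [mulVec_add, mulVec_smul, J_J hs, hb.add_left, hb.add_right, hb.smul_left,
      hb.smul_right, hs.symp.alternating, hvi, h1, h2, h3, h4, hs.symp.skew (J *ᵥ v) v]
  · have := hs.two
    rw [ht]
    field_simp
    ring
  all_goals ring

/-- Coordinates with respect to a hyperbolic pair over the quadratic field. -/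
theorem decomp {v e : ι → F} (hv : f v (J *ᵥ v) = 0) (he : f e (J *ᵥ e) = 0) (h1 : f v e = 1)
    (h2 : f v (J *ᵥ e) = 0) (x : ι → F) :
    x = f x e • v + (-(f x (J *ᵥ e)) / μ) • (J *ᵥ v) + f v x • e +
      (-(f (J *ᵥ v) x) / μ) • (J *ᵥ e) := by
  have hb := hs.symp.bilinear
  have hμ := mu_ne hs
  have h3 : f (J *ᵥ v) e = 0 := by rw [hs.skew, h2, neg_zero]
  have h4 : f (J *ᵥ v) (J *ᵥ e) = -μ := by rw [f_JJ hs, h1, mul_one]
  have h5 : f (J *ᵥ v) v = 0 := by rw [hs.symp.skew, hv, neg_zero]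
  have h6 : f (J *ᵥ e) e = 0 := by rw [hs.symp.skew, he, neg_zero]
  let Ψ : (Fin 4 → F) →ₗ[F] (ι → F) :=
    Fintype.linearCombination F ![v, J *ᵥ v, e, J *ᵥ e]
  have hΨ : ∀ c, Ψ c = c 0 • v + c 1 • (J *ᵥ v) + c 2 • e + c 3 • (J *ᵥ e) := fun c => by
    simp [Ψ, Fintype.linearCombination_apply, Fin.sum_univ_four]
  have hco : ∀ c, f (Ψ c) e = c 0 ∧ f (Ψ c) (J *ᵥ e) = -(μ * c 1) ∧ f v (Ψ c) = c 2 ∧
      f (J *ᵥ v) (Ψ c) = -(μ * c 3) := fun c => by
    refine ⟨?_, ?_, ?_, ?_⟩ <;>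
      simp only [hΨ, hb.add_left, hb.add_right, hb.smul_left, hb.smul_right, hs.symp.alternating,
        h1, h2, h3, h4, h5, h6, hv, he] <;> ring
  have hinj : Function.Injective Ψ := by
    refine (injective_iff_map_eq_zero Ψ).mpr fun c hc => ?_
    obtain ⟨c0, c1, c2, c3⟩ := hco c
    simp only [hc, form_zero_left hb, form_zero_right hb] at c0 c1 c2 c3
    funext i
    fin_cases i
    · exact c0.symm
    · exact (mul_eq_zero.mp (neg_eq_zero.mp c1.symm)).resolve_left hμ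
    · exact c2.symm
    · exact (mul_eq_zero.mp (neg_eq_zero.mp c3.symm)).resolve_left hμ
  obtain ⟨c, rfl⟩ := (LinearMap.injective_iff_surjective_of_finrank_eq_finrank
    (by rw [Module.finrank_fin_fun, Module.finrank_fintype_fun_eq_card, hn])).mp hinj x
  obtain ⟨c0, c1, c2, c3⟩ := hco c
  rw [c0, c1, c2, c3, hΨ, neg_neg, neg_neg, mul_div_cancel_left₀ _ hμ, mul_div_cancel_left₀ _ hμ]

/-- Isotropic vectors span. -/
theorem eq_zero_of_iso {W : Type*} [AddCommGroup W] [Module F W] (T : (ι → F) →ₗ[F] W)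
    (hT : ∀ w, f w (J *ᵥ w) = 0 → T w = 0) (x : ι → F) : T x = 0 := by
  obtain ⟨v, hv0, hv⟩ := exists_iso hs hn
  obtain ⟨e, he, h1, h2⟩ := exists_partner hs hn hv0 hv
  have hJ : ∀ w, f w (J *ᵥ w) = 0 → T (J *ᵥ w) = 0 := fun w hw =>
    hT _ (by simpa using iso_comb hs hw 0 1)
  rw [decomp hs hn hv he h1 h2 x]
  simp [map_add, map_smul, hT v hv, hT e he, hJ v hv, hJ e he]

/-- One of two `J`-stable kernels is everything if together they hold all isotropic vectors. -/
theorem dichotomy {W W' : Type*} [AddCommGroup W] [Module F W] [AddCommGroup W'] [Module F W']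
    (T : (ι → F) →ₗ[F] W) (S : (ι → F) →ₗ[F] W') (hT : ∀ x, T x = 0 → T (J *ᵥ x) = 0)
    (hS : ∀ x, S x = 0 → S (J *ᵥ x) = 0) (hor : ∀ w, f w (J *ᵥ w) = 0 → T w = 0 ∨ S w = 0) :
    (∀ x, T x = 0) ∨ ∀ x, S x = 0 := by
  classical
  have hb := hs.symp.bilinear
  by_cases hall : ∀ w, f w (J *ᵥ w) = 0 → T w = 0
  · exact Or.inl (eq_zero_of_iso hs hn T hall)
  refine Or.inr (eq_zero_of_iso hs hn S ?_)
  intro w₂ hw₂
  by_contra hS₂
  push Not at hall
  obtain ⟨w₁, hw₁, hT₁⟩ := hall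
  have hS₁ : S w₁ = 0 := (hor w₁ hw₁).resolve_left hT₁
  have hT₂ : T w₂ = 0 := (hor w₂ hw₂).resolve_right hS₂
  obtain ⟨α, γ, hαγ, hlin⟩ : ∃ α γ : F, (α ≠ 0 ∨ γ ≠ 0) ∧
      α * f w₁ (J *ᵥ w₂) + γ * (μ * f w₁ w₂) = 0 := by
    by_cases hA : f w₁ (J *ᵥ w₂) = 0
    · exact ⟨1, 0, Or.inl one_ne_zero, by rw [hA]; ring⟩
    · exact ⟨μ * f w₁ w₂, -(f w₁ (J *ᵥ w₂)), Or.inr (neg_ne_zero.mpr hA), by ring⟩
  set y := α • w₂ + γ • (J *ᵥ w₂) with hy
  have hiso : f (w₁ + y) (J *ᵥ (w₁ + y)) = 0 := by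
    rw [mulVec_add, hb.add_left, hb.add_right, hb.add_right, hw₁, iso_comb hs hw₂ α γ,
      symm_J hs w₁ y, hy, mulVec_add, mulVec_smul, mulVec_smul, J_J hs, hb.add_right,
      hb.smul_right, hb.smul_right, hb.smul_right]
    linear_combination 2 * hlin
  have hTy : T y = 0 := by rw [hy, map_add, map_smul, map_smul, hT₂, hT _ hT₂]; simp
  rcases hor _ hiso with h | h
  · rw [map_add, hTy, add_zero] at h; exact hT₁ h
  · rw [map_add, hS₁, zero_add] at h
    refine hS₂ ((smul_eq_zero.mp ?_).resolve_left (norm_ne hs hαγ))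
    rw [← map_smul, show (α * α - μ * (γ * γ)) • w₂ = α • y - γ • (J *ᵥ y) by
      rw [hy, mulVec_add, mulVec_smul, mulVec_smul, J_J hs]; module,
      map_sub, map_smul, map_smul, h, hS _ h]
    simp

/-- The dilation of a line over the quadratic field. -/
theorem exists_dilation {v e : ι → F} (hv : f v (J *ᵥ v) = 0) (he : f e (J *ᵥ e) = 0)
    (h1 : f v e = 1) (h2 : f v (J *ᵥ e) = 0) {l : F} (hl : l ≠ 0) :
    ∃ k ∈ isom f, (∀ x, (k : Matrix ι ι F) *ᵥ (J *ᵥ x) = J *ᵥ ((k : Matrix ι ι F) *ᵥ x)) ∧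
      (k : Matrix ι ι F) *ᵥ v = l • v + (0 : F) • (J *ᵥ v) ∧
      (k : Matrix ι ι F) *ᵥ (J *ᵥ v) = (0 : F) • v + l • (J *ᵥ v) := by
  have hb := hs.symp.bilinear
  have hμ := mu_ne hs
  have h3 : f (J *ᵥ v) e = 0 := by rw [hs.skew, h2, neg_zero]
  have h4 : f (J *ᵥ v) (J *ᵥ e) = -μ := by rw [f_JJ hs, h1, mul_one]
  have h5 : f (J *ᵥ v) v = 0 := by rw [hs.symp.skew, hv, neg_zero]
  have h6 : f (J *ᵥ e) e = 0 := by rw [hs.symp.skew, he, neg_zero]
  obtain ⟨k₁, hk₁i, hk₁⟩ := LagCore.exists_dil hs.symp h1 hl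
  obtain ⟨k₂, hk₂i, hk₂⟩ := LagCore.exists_dil hs.symp
    (a := J *ᵥ v) (b := (-μ⁻¹) • (J *ᵥ e))
    (by rw [hb.smul_right, h4]; field_simp) hl
  have hk : ∀ x, ((k₁ * k₂ : GL ι F) : Matrix ι ι F) *ᵥ x = x + ((l - 1) * f x e) • v +
      ((l⁻¹ - 1) * f v x) • e + ((l - 1) * (-μ⁻¹ * f x (J *ᵥ e))) • (J *ᵥ v) +
      ((l⁻¹ - 1) * (-μ⁻¹ * f (J *ᵥ v) x)) • (J *ᵥ e) := fun x => by
    simp only [Units.val_mul, ← mulVec_mulVec, hk₁, hk₂, hb.add_left, hb.add_right, hb.smul_left,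
      hb.smul_right, hv, h2, h3, h6]
    module
  refine ⟨k₁ * k₂, mul_mem hk₁i hk₂i, fun x => ?_, ?_, ?_⟩
  · rw [hk, hk]
    simp only [mulVec_add, mulVec_smul, J_J hs, f_JJ hs, hs.skew x e, hs.skew x (J *ᵥ e), J_J hs,
      hb.smul_right, show f v (J *ᵥ x) = -f (J *ᵥ v) x by rw [hs.skew, neg_neg]]
    match_scalars <;> field_simp <;> ring
  · rw [hk, h1, h2, h5, hs.symp.alternating]
    module
  · rw [hk, h3, h4, hv, hs.symp.alternating]
    match_scalars <;> field_simp <;> ring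

/-- Rotations of norm one. -/
theorem exists_rotation (h5 : 5 ≤ Fintype.card F) :
    ∃ p r : F, p ≠ 0 ∧ r ≠ 0 ∧ ∃ k ∈ isom f,
      ∀ x, (k : Matrix ι ι F) *ᵥ x = p • x + r • (J *ᵥ x) := by
  classical
  obtain ⟨t₀, ht₀⟩ : ∃ t₀ : F, ∀ t, μ * (t * t) = -1 → t = t₀ ∨ t = -t₀ := by
    by_cases h : ∃ t₀ : F, μ * (t₀ * t₀) = -1
    · obtain ⟨t₀, h0⟩ := h
      exact ⟨t₀, fun t ht => mul_self_eq_mul_self_iff.mp
        (mul_left_cancel₀ (mu_ne hs) (ht.trans h0.symm))⟩
    · exact ⟨0, fun t ht => absurd ⟨t, ht⟩ h⟩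
  obtain ⟨t, -, ht⟩ := Finset.exists_mem_notMem_of_card_lt_card
    (s := ({0, t₀, -t₀} : Finset F)) (t := Finset.univ)
    (Finset.card_le_three.trans_lt (by rw [Finset.card_univ]; omega))
  simp only [Finset.mem_insert, Finset.mem_singleton, not_or] at ht
  have hne : 1 - μ * (t * t) ≠ 0 := by
    have := norm_ne hs (x := (1 : F)) (y := t) (Or.inl one_ne_zero)
    rwa [one_mul] at this
  set p := (1 + μ * (t * t)) / (1 - μ * (t * t)) with hp
  set r := 2 * t / (1 - μ * (t * t)) with hr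
  have hnorm : p * p - μ * (r * r) = 1 := by
    rw [hp, hr, div_mul_div_comm, div_mul_div_comm, ← mul_div_assoc, ← sub_div,
      div_eq_one_iff_eq (mul_ne_zero hne hne)]
    ring
  have hp0 : p ≠ 0 := div_ne_zero (fun h => by
    rcases ht₀ t (by linear_combination h) with e | e
    · exact ht.2.1 e
    · exact ht.2.2 e) hne
  refine ⟨p, r, hp0, div_ne_zero (mul_ne_zero hs.two ht.1) hne, ?_⟩
  have hprod : ∀ s : F, s * s = r * r → (p • (1 : Matrix ι ι F) + s • J) * (p • 1 - s • J) = 1 := by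
    intro s hsr
    simp only [add_mul, mul_sub, Matrix.smul_mul, Matrix.mul_smul, one_mul, mul_one, hs.sq]
    match_scalars
    · linear_combination hnorm - μ * hsr
    · ring
  let k : GL ι F := ⟨p • 1 + r • J, p • 1 - r • J, hprod r rfl, by
    simpa [sub_eq_add_neg] using hprod (-r) (neg_mul_neg r r)⟩
  have hkx : ∀ x, (k : Matrix ι ι F) *ᵥ x = p • x + r • (J *ᵥ x) := fun x => by
    show (p • (1 : Matrix ι ι F) + r • J) *ᵥ x = _
    rw [add_mulVec, smul_mulVec, smul_mulVec, one_mulVec]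
  refine ⟨k, mem_isom.mpr fun x y => ?_, hkx⟩
  have hb := hs.symp.bilinear
  rw [hkx, hkx]
  simp only [hb.add_left, hb.add_right, hb.smul_left, hb.smul_right, f_JJ hs, hs.skew x y]
  linear_combination f x y * hnorm

variable (h5 : 5 ≤ Fintype.card F) {M : Subgroup (GL ι F)}
variable (hM : ∀ g ∈ isom f,
  (∀ x, (g : Matrix ι ι F) *ᵥ (J *ᵥ x) = J *ᵥ ((g : Matrix ι ι F) *ᵥ x)) → g ∈ M)
include h5 hM

/-- One element off the unitary translations makes the whole line a line of centres. -/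
theorem line_centres {v : ι → F} (hv0 : v ≠ 0) (hv : f v (J *ᵥ v) = 0) {a b : F}
    (hab : a ≠ 0 ∨ b ≠ 0) (hU : U f J v a b 0 ∈ M) (x y : F) :
    x • v + y • (J *ᵥ v) ∈ centres f M := by
  have hμ := mu_ne hs
  obtain ⟨e, he, he1, he2⟩ := exists_partner hs hn hv0 hv
  have hneg : ∀ {a b c}, U f J v a b c ∈ M → U f J v (-a) (-b) (-c) ∈ M := fun {a b c} h => by
    rw [eq_inv_of_mul_eq_one_left (show U f J v (-a) (-b) (-c) * U f J v a b c = 1 by
      rw [U_mul hs hv, neg_add_cancel, neg_add_cancel, neg_add_cancel, U_zero hs hv])]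
    exact inv_mem h
  have hN : ∀ β, U f J v (-(μ * β)) 0 β ∈ M := fun β => by
    rw [U_ut hs hv]
    exact hM _ (ut_mem_isom hs v β) fun x => ut_comm hs hv β x
  have hsq : ∀ (l : F) {a b : F}, U f J v a b 0 ∈ M → U f J v (l * l * a) (l * l * b) 0 ∈ M := by
    intro l a b h
    by_cases hl : l = 0
    · rw [hl, zero_mul, zero_mul, zero_mul, U_zero hs hv]; exact one_mem M
    obtain ⟨k, hki, hkJ, hk1, hk2⟩ := exists_dilation hs hn hv he he1 he2 hl
    have hkM := hM k hki hkJ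
    have := mul_mem (mul_mem hkM h) (inv_mem hkM)
    rw [U_conj hs hv hki hk1 hk2] at this
    convert this using 2 <;> ring
  have hsmul : ∀ (t : F) {a b : F}, U f J v a b 0 ∈ M → U f J v (t * a) (t * b) 0 ∈ M := by
    intro t a b h
    have := mul_mem (hsq ((t + 1) / 2) h) (hneg (hsq ((t - 1) / 2) h))
    rw [U_mul hs hv] at this
    have h2 := hs.two
    convert this using 2 <;> field_simp <;> ring
  obtain ⟨p, r, hp, hr, k, hki, hk⟩ := exists_rotation hs hn h5
  have hkM : k ∈ M := hM k hki fun x => by rw [hk, hk, mulVec_add, mulVec_smul, mulVec_smul]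
  have hkJv : (k : Matrix ι ι F) *ᵥ (J *ᵥ v) = (r * μ) • v + p • (J *ᵥ v) := by
    rw [hk, J_J hs]; module
  have h' := mul_mem (mul_mem hkM hU) (inv_mem hkM)
  rw [U_conj hs hv hki (hk v) hkJv] at h'
  set z := r * r * a + 2 * (r * p) * b + p * p * 0 with hz
  have h'' := mul_mem h' (hN (-z))
  rw [U_mul hs hv, add_neg_cancel] at h''
  set a' := p * p * a + 2 * (p * (r * μ)) * b + r * μ * (r * μ) * 0 + -(μ * -z) with ha'
  set b' := p * r * a + (p * p + r * (r * μ)) * b + r * μ * p * 0 + 0 with hb'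
  have hD : a * b' - b * a' ≠ 0 := by
    rw [show a * b' - b * a' = p * r * (a * a - μ * ((2 * b) * (2 * b))) by
      rw [ha', hb', hz]; ring]
    exact mul_ne_zero (mul_ne_zero hp hr) (norm_ne hs (hab.imp_right (mul_ne_zero hs.two)))
  intro c
  rw [← U_st hs hv]
  set A := c * (x * x) + μ * (c * (y * y)) with hA
  set B := c * (x * y) with hB
  have := mul_mem (mul_mem (hsmul ((A * b' - B * a') / (a * b' - b * a')) hU)
    (hsmul ((a * B - b * A) / (a * b' - b * a')) h'')) (hN (c * (y * y)))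
  rw [U_mul hs hv, U_mul hs hv] at this
  have k1 : (A * b' - B * a') / (a * b' - b * a') * a +
      (a * B - b * A) / (a * b' - b * a') * a' = A := by
    rw [div_mul_eq_mul_div, div_mul_eq_mul_div, ← add_div, div_eq_iff hD]; ring
  have k2 : (A * b' - B * a') / (a * b' - b * a') * b +
      (a * B - b * A) / (a * b' - b * a') * b' = B := by
    rw [div_mul_eq_mul_div, div_mul_eq_mul_div, ← add_div, div_eq_iff hD]; ring
  rw [k1, k2] at this
  convert this using 2
  · rw [hA]; ring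
  · rw [hB]; ring
  · ring

/-- The key step. -/
theorem centre_of {g : GL ι F} (hgM : g ∈ M) (hgi : g ∈ isom f) {v w : ι → F}
    (hv0 : v ≠ 0) (hv : f v (J *ᵥ v) = 0) (hw : f w (J *ᵥ w) = 0) {a a' b b' : F}
    (ha : f v ((g : Matrix ι ι F) *ᵥ w) = a)
    (ha' : f v ((g : Matrix ι ι F) *ᵥ (J *ᵥ w)) = a')
    (hb₁ : f (J *ᵥ v) ((g : Matrix ι ι F) *ᵥ w) = b)
    (hb₂ : f (J *ᵥ v) ((g : Matrix ι ι F) *ᵥ (J *ᵥ w)) = b')
    (hns : μ * a * b - a' * b' ≠ 0 ∨
      μ * (a' * a') - μ * μ * (a * a) ≠ μ * (b * b) - b' * b') :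
    v ∈ centres f M := by
  have hb := hs.symp.bilinear
  have hμ := mu_ne hs
  set u := (g : Matrix ι ι F) *ᵥ w with hu
  set u' := (g : Matrix ι ι F) *ᵥ (J *ᵥ w) with hu'
  have huu : f u u' = 0 := by rw [hu, hu', mem_isom.mp hgi, hw]
  let op : (ι → F) → (ι → F) → ((ι → F) →ₗ[F] (ι → F)) := fun a b =>
    -(μ • (lmap hb a).smulRight a) + (lmap hb b).smulRight b
  have op_apply : ∀ a b x, op a b x = -(μ • f x a • a) + f x b • b := fun a b x => rfl
  have op_sq : ∀ {a b}, f a b = 0 → ∀ x, op a b (op a b x) = 0 := by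
    intro a b h x
    have h' : f b a = 0 := by rw [hs.symp.skew, h, neg_zero]
    rw [op_apply, op_apply]
    simp only [hb.add_left, hb.smul_left, hs.symp.alternating, h, h',
      ← neg_one_smul F (μ • f x a • a)]
    simp
  set X := op v (J *ᵥ v) with hX
  set Y := op u u' with hY
  have hut : ∀ {y}, f y (J *ᵥ y) = 0 → ∀ β, ut f J μ y β ∈ M := fun {y} hy β =>
    hM _ (ut_mem_isom hs y β) fun x => ut_comm hs hy β x
  let T : F → GL ι F := fun β => g * ut f J μ w β * g⁻¹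
  have hTM : ∀ β, T β ∈ M := fun β => mul_mem (mul_mem hgM (hut hw β)) (inv_mem hgM)
  have hTi : ∀ β, T β ∈ isom f := fun β =>
    mul_mem (mul_mem hgi (ut_mem_isom hs w β)) (inv_mem hgi)
  have hTx : ∀ β x, (T β : Matrix ι ι F) *ᵥ x = x + β • Y x := fun β x => by
    obtain ⟨z, rfl⟩ : ∃ z, (g : Matrix ι ι F) *ᵥ z = x := ⟨_, mulVec_inv_mulVec g x⟩
    simp only [T, Units.val_mul, ← mulVec_mulVec, inv_mulVec_mulVec, ut_mulVec hs hw, mulVec_add,
      mulVec_smul, hY, op_apply, hu, hu', mem_isom.mp hgi]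
    module
  have hUx : ∀ β x, (ut f J μ v β : Matrix ι ι F) *ᵥ x = x + β • X x := fun β x => by
    rw [ut_mulVec hs hv, hX, op_apply]; module
  set p11 := μ * (a' * a') - μ * μ * (a * a) with hp11
  set p12 := μ * a * b - a' * b' with hp12
  set p22 := μ * (b * b) - b' * b' with hp22
  have hXu : X u = (μ * a) • v - b • (J *ᵥ v) := by
    rw [hX, op_apply, hs.symp.skew u v, hs.symp.skew u (J *ᵥ v), ha, hb₁]; module
  have hXu' : X u' = (μ * a') • v - b' • (J *ᵥ v) := by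
    rw [hX, op_apply, hs.symp.skew u' v, hs.symp.skew u' (J *ᵥ v), ha', hb₂]; module
  have hPv : X (Y v) = p11 • v + p12 • (J *ᵥ v) := by
    have e : Y v = -(μ • a • u) + a' • u' := by rw [hY, op_apply, ha, ha']
    rw [e, map_add, map_neg, map_smul, map_smul, map_smul, hXu, hXu', hp11, hp12]
    module
  have hPJ : X (Y (J *ᵥ v)) = (-(μ * p12)) • v + p22 • (J *ᵥ v) := by
    have e : Y (J *ᵥ v) = -(μ • b • u) + b' • u' := by rw [hY, op_apply, hb₁, hb₂]
    rw [e, map_add, map_neg, map_smul, map_smul, map_smul, hXu, hXu', hp22, hp12]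
    module
  set τ := p11 + p22 with hτ
  set δ := p11 * p22 + μ * (p12 * p12) with hδ
  have hodd : Odd (Fintype.card F) := by
    rw [Nat.odd_iff]
    refine FiniteField.odd_card_of_char_ne_two fun h => hs.two ?_
    haveI := ringChar.of_eq h
    exact CharTwo.two_eq_zero
  obtain ⟨c, hc, hden, hf', hc4⟩ := Sp6Geom34.Tensor.exists_param hodd h5 τ δ
  set den := δ * c ^ 2 + τ * c + 2 with hdendef
  set k := c ^ 2 / den with hk
  set f₅ := k * δ - 2 with hf₅
  have hk0 : k ≠ 0 := div_ne_zero (pow_ne_zero 2 hc) hden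
  have hkd : k * den = c ^ 2 := div_mul_cancel₀ _ hden
  have hf0 : f₅ ≠ 0 := fun h0 => by
    have : f₅ * den = -(δ * c ^ 2 + 2 * τ * c + 4) := by
      rw [hf₅]; linear_combination δ * hkd - 2 * hdendef
    rw [h0, zero_mul] at this
    exact hf' (neg_eq_zero.1 this.symm)
  set e₅ := k / (f₅ * c) with he₅
  have hef : e₅ * f₅ = k / c := by
    rw [he₅, div_mul_eq_mul_div, mul_comm f₅ c, mul_div_mul_right _ _ hf0]
  have hcef : c * e₅ * f₅ = k := by rw [mul_assoc, hef, mul_div_cancel₀ _ hc]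
  have hkc : k / c * c = k := div_mul_cancel₀ _ hc
  have hs' : c + c * f₅ + 2 * (k / c) + k * τ = 0 := by
    refine (mul_eq_zero.mp (?_ : c * _ = 0)).resolve_left hc
    rw [hf₅]
    linear_combination hkd + 2 * hkc + k * hdendef
  set h := T 1 * ut f J μ v c * T 1 * ut f J μ v e₅ * T f₅ with hh
  have hhM : h ∈ M := mul_mem (mul_mem (mul_mem (mul_mem (hTM _) (hut hv _)) (hTM _))
    (hut hv _)) (hTM _)
  have hhi : h ∈ isom f := mul_mem (mul_mem (mul_mem (mul_mem (hTi _) (ut_mem_isom hs v _))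
    (hTi _)) (ut_mem_isom hs v _)) (hTi _)
  set α := 1 - k * δ with hα
  set β := -(k / c) with hβ
  have hβ0 : β ≠ 0 := neg_ne_zero.mpr (div_ne_zero hk0 hc)
  have hγ : 2 * α + β * τ ≠ 0 := fun h0 => by
    have hk2 : k / c * den = c := by
      rw [div_mul_eq_mul_div, hkd, sq, mul_div_assoc, div_self hc, mul_one]
    have : (2 * α + β * τ) * den = τ * c + 4 := by
      rw [hα, hβ]
      linear_combination (-(2 * δ)) * hkd - τ * hk2 + 2 * hdendef
    rw [h0, zero_mul] at this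
    exact hc4 this.symm
  clear_value α β e₅ f₅ k den δ τ p11 p12 p22
  have hline : ∀ x y : F, (h : Matrix ι ι F) *ᵥ (x • v + y • (J *ᵥ v)) =
      α • (x • v + y • (J *ᵥ v)) + β • X (Y (x • v + y • (J *ᵥ v))) := by
    intro x y
    set l := x • v + y • (J *ᵥ v) with hl
    have hXv : X l = 0 := by
      have : f (J *ᵥ v) v = 0 := by rw [hs.symp.skew, hv, neg_zero]
      simp [hl, hX, op_apply, hb.add_left, hb.smul_left, hs.symp.alternating, hv, this]
    have hsq : X (Y (X (Y l))) = τ • X (Y l) - δ • l := by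
      simp only [hl, map_add, map_smul, hPv, hPJ, hτ, hδ]
      module
    have hw' := word_apply X Y (op_sq hv) (op_sq huu) hXv (1 : F) c 1 e₅ f₅
    simp only [hh, Units.val_mul, ← mulVec_mulVec, hTx, hUx]
    dsimp only at hw'
    clear_value l
    rw [hw', hsq, map_sub, map_smul, map_smul, hα, hβ]
    match_scalars
    · linear_combination (-δ) * hcef
    · linear_combination hef + hs' + τ * hcef
    · linear_combination hf₅ + (-δ) * hcef
    · linear_combination hs' + 2 * hef + τ * hcef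
  have e1 := hline 1 0
  have e2 := hline 0 1
  simp only [one_smul, zero_smul, zero_add, add_zero, hPv, hPJ] at e1 e2
  have hh1 : (h : Matrix ι ι F) *ᵥ v = (α + β * p11) • v + (β * p12) • (J *ᵥ v) := by
    rw [e1]; module
  have hh2 : (h : Matrix ι ι F) *ᵥ (J *ᵥ v) =
      (-(β * (μ * p12))) • v + (α + β * p22) • (J *ᵥ v) := by
    rw [e2]; module
  have hN : U f J v (-(μ * 1)) 0 1 ∈ M := by rw [U_ut hs hv]; exact hut hv 1
  have hz := mul_mem (mul_mem hhM hN) (inv_mem hhM)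
  rw [U_conj hs hv hhi hh1 hh2] at hz
  set z := β * p12 * (β * p12) * -(μ * 1) + 2 * (β * p12 * (α + β * p22)) * 0 +
    (α + β * p22) * (α + β * p22) * 1 with hzdef
  have hz' := mul_mem hz (show U f J v (-(μ * -z)) 0 (-z) ∈ M by
    rw [U_ut hs hv]; exact hut hv (-z))
  rw [U_mul hs hv, add_neg_cancel] at hz'
  have hmem := line_centres hs hn h5 hM hv0 hv ?_ hz' 1 0
  · simpa using hmem
  rcases hns with hns | hns
  · refine Or.inr fun h0 => mul_ne_zero (mul_ne_zero (mul_ne_zero hμ hβ0) hns) hγ ?_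
    rw [hτ]; linear_combination -h0
  · refine Or.inl fun h0 => mul_ne_zero (mul_ne_zero (mul_ne_zero hμ hβ0) (sub_ne_zero.mpr hns)) hγ ?_
    rw [hτ]; rw [hzdef] at h0; linear_combination -h0

/-- Without isotropic centres, `g` is semilinear. -/
theorem semilinear_of_no_centre
    (hno : ¬ ∃ p, p ≠ 0 ∧ f p (J *ᵥ p) = 0 ∧ p ∈ centres f M)
    {g : GL ι F} (hgM : g ∈ M) (hgi : g ∈ isom f) :
    (∀ x, (g : Matrix ι ι F) *ᵥ (J *ᵥ x) = J *ᵥ ((g : Matrix ι ι F) *ᵥ x)) ∨
      ∀ x, (g : Matrix ι ι F) *ᵥ (J *ᵥ x) = -(J *ᵥ ((g : Matrix ι ι F) *ᵥ x)) := by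
  classical
  have hb := hs.symp.bilinear
  have hμ := mu_ne hs
  let G := (g : Matrix ι ι F).mulVecLin
  have hiso : ∀ w, f w (J *ᵥ w) = 0 →
      (G (J *ᵥ w) + J *ᵥ G w = 0) ∨ (G (J *ᵥ w) - J *ᵥ G w = 0) := by
    intro w hw
    set dp := G (J *ᵥ w) + J *ᵥ G w with hdp
    set dm := G (J *ᵥ w) - J *ᵥ G w with hdm
    let pr : (ι → F) → ((ι → F) →ₗ[F] F × F) := fun d =>
      (lmap hb d).prod (lmap hb d ∘ₗ J.mulVecLin)
    have hpr : ∀ d x, pr d x = (f x d, f (J *ᵥ x) d) := fun d x => rfl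
    have hstab : ∀ d x, pr d x = 0 → pr d (J *ᵥ x) = 0 := fun d x h => by
      simp only [hpr, Prod.mk_eq_zero, J_J hs, hb.smul_left] at h ⊢
      exact ⟨h.2, by rw [h.1, mul_zero]⟩
    have hor : ∀ v, f v (J *ᵥ v) = 0 → pr dp v = 0 ∨ pr dm v = 0 := by
      intro v hv
      by_cases hv0 : v = 0
      · left; rw [hv0, map_zero]
      set a := f v (G w) with ha
      set a' := f v (G (J *ᵥ w)) with ha'
      set b := f (J *ᵥ v) (G w) with hb₁
      set b' := f (J *ᵥ v) (G (J *ᵥ w)) with hb₂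
      by_contra hc
      refine hno ⟨v, hv0, hv, centre_of hs hn h5 hM hgM hgi hv0 hv hw ha.symm ha'.symm hb₁.symm
        hb₂.symm ?_⟩
      by_contra hns
      push Not at hns
      obtain ⟨e1, e2⟩ := hns
      apply hc
      have vJu : f v (J *ᵥ G w) = -b := by rw [hb₁, hs.skew, neg_neg]
      have JvJu : f (J *ᵥ v) (J *ᵥ G w) = -(μ * a) := f_JJ hs _ _
      simp only [hpr, Prod.mk_eq_zero, hdp, hdm, hb.add_right, form_sub_right hb, vJu, JvJu,
        ← ha', ← hb₂]
      by_cases ha0 : a = 0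
      · rw [ha0] at e1 e2 ⊢
        have hb' : b' = 0 := by
          by_contra hb'
          have ha'0 : a' = 0 := by
            rcases mul_eq_zero.mp (show a' * b' = 0 by linear_combination -e1) with h | h
            · exact h
            · exact absurd h hb'
          rw [ha'0] at e2
          exact hs.nsq (b' / b) (by
            have hb0 : b ≠ 0 := fun h => hb' (by
              rw [h] at e2; exact mul_self_eq_zero.mp (by linear_combination e2))
            field_simp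
            linear_combination e2)
        rw [hb'] at e2 ⊢
        rcases mul_self_eq_mul_self_iff.mp (mul_left_cancel₀ hμ
          (show μ * (a' * a') = μ * (b * b) by linear_combination e2)) with h | h
        · left; exact ⟨by rw [h]; ring, by ring⟩
        · right; exact ⟨by rw [h]; ring, by ring⟩
      have h3 : (a' * a' - μ * (a * a)) * (b' * b' - μ * a * (μ * a)) = 0 := by
        linear_combination (-(μ * a * b + a' * b')) * e1 - (μ * (a * a)) * e2
      have hne : a' * a' - μ * (a * a) ≠ 0 := norm_ne hs (Or.inr ha0)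
      rcases mul_self_eq_mul_self_iff.mp (sub_eq_zero.mp ((mul_eq_zero.mp h3).resolve_left hne))
        with h | h
      · rw [h] at e1
        have : b = a' := mul_left_cancel₀ (mul_ne_zero hμ ha0)
          (show μ * a * b = μ * a * a' by linear_combination e1)
        left; exact ⟨by rw [this]; ring, by rw [h]; ring⟩
      · rw [h] at e1
        have : b = -a' := mul_left_cancel₀ (mul_ne_zero hμ ha0)
          (show μ * a * b = μ * a * -a' by linear_combination e1)
        right; exact ⟨by rw [this]; ring, by rw [h]; ring⟩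
    rcases dichotomy hs hn (pr dp) (pr dm) (hstab dp) (hstab dm) hor with h | h <;>
      [left; right] <;>
    · by_contra hd
      obtain ⟨x, hx⟩ := (hs.symp.nondegenerate _ hd).1
      exact hx (congrArg Prod.fst (h x))
  let T := G ∘ₗ J.mulVecLin + J.mulVecLin ∘ₗ G
  let S := G ∘ₗ J.mulVecLin - J.mulVecLin ∘ₗ G
  have hT : ∀ x, T x = G (J *ᵥ x) + J *ᵥ G x := fun x => rfl
  have hS : ∀ x, S x = G (J *ᵥ x) - J *ᵥ G x := fun x => rfl
  have hTJ : ∀ x, T x = 0 → T (J *ᵥ x) = 0 := fun x h => by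
    have : T (J *ᵥ x) = J *ᵥ T x := by
      rw [hT, hT, J_J hs, map_smul, mulVec_add, J_J hs]; module
    rw [this, h, mulVec_zero]
  have hSJ : ∀ x, S x = 0 → S (J *ᵥ x) = 0 := fun x h => by
    have : S (J *ᵥ x) = -(J *ᵥ S x) := by
      rw [hS, hS, J_J hs, map_smul, mulVec_sub, J_J hs]; module
    rw [this, h, mulVec_zero, neg_zero]
  rcases dichotomy hs hn T S hTJ hSJ (fun w hw => hiso w hw) with h | h
  · exact Or.inr fun x => eq_neg_iff_add_eq_zero.mpr (h x)
  · exact Or.inl fun x => sub_eq_zero.mp (h x)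

theorem centres_step {p e : ι → F} (hp : p ∈ centres f M) (he : f e (J *ᵥ e) = 0)
    (h1 : f p e ≠ 0) (h2 : f p (J *ᵥ e) = 0) : e ∈ centres f M := by
  have hb := hs.symp.bilinear
  have hpe : p + e ∈ centres f M := by
    have hut : ut f J μ e (-(μ * f p e)⁻¹) ∈ M :=
      hM _ (ut_mem_isom hs _ _) fun x => ut_comm hs he _ x
    have := conj_mem_centres hs.symp hut (ut_mem_isom hs _ _) hp
    rw [ut_mulVec hs he, h2, mul_zero, zero_smul, add_zero] at this
    have hμ := mu_ne hs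
    rwa [show -(μ * -(μ * f p e)⁻¹) * f p e = 1 by field_simp, one_smul] at this
  have := add_smul_mem_centres hs.symp hpe hp (a := -1)
    (by rw [hb.add_left, hs.symp.alternating, zero_add, hs.symp.skew]; exact neg_ne_zero.mpr h1)
  simpa using this

/-- An overgroup of the unitary group is everything or semilinear. -/
theorem isom_le {g : GL ι F} (hgM : g ∈ M) (hgi : g ∈ isom f)
    (hg : ¬ ((∀ x, (g : Matrix ι ι F) *ᵥ (J *ᵥ x) = J *ᵥ ((g : Matrix ι ι F) *ᵥ x)) ∨
      ∀ x, (g : Matrix ι ι F) *ᵥ (J *ᵥ x) = -(J *ᵥ ((g : Matrix ι ι F) *ᵥ x)))) :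
    isom f ≤ M := by
  have hb := hs.symp.bilinear
  have hμ := mu_ne hs
  obtain ⟨v, hv0, hv, hvC⟩ : ∃ p, p ≠ 0 ∧ f p (J *ᵥ p) = 0 ∧ p ∈ centres f M := by
    by_contra hno
    exact hg (semilinear_of_no_centre hs hn h5 hM hno hgM hgi)
  have hline : ∀ {v}, v ≠ 0 → f v (J *ᵥ v) = 0 → v ∈ centres f M →
      ∀ x y : F, x • v + y • (J *ᵥ v) ∈ centres f M := fun {v} hv0 hv hvC => by
    refine line_centres hs hn h5 hM hv0 hv (a := 1) (b := 0) (Or.inl one_ne_zero) ?_
    have : st f ((1 : F) • v + (0 : F) • (J *ᵥ v)) 1 ∈ M := by simpa using hvC 1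
    rw [← U_st hs hv] at this
    simpa using this
  obtain ⟨e, he, h1, h2⟩ := exists_partner hs hn hv0 hv
  have he0 : e ≠ 0 := fun h => zero_ne_one (by rw [← h1, h, form_zero_right hb])
  have heC : e ∈ centres f M :=
    centres_step hs hn h5 hM hvC he (by rw [h1]; exact one_ne_zero) h2
  have hLv := hline hv0 hv hvC
  have hLe := hline he0 he heC
  suffices ∀ x, x ∈ centres f M from isom_le_of_st_mem hs.symp fun v c => this v c
  intro x
  have hx := decomp hs hn hv he h1 h2 x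
  set a := f x e
  set b := -(f x (J *ᵥ e)) / μ
  set c := f v x
  set d := -(f (J *ᵥ v) x) / μ
  by_cases hcd : c = 0 ∧ d = 0
  · rw [hx, hcd.1, hcd.2, zero_smul, zero_smul, add_zero, add_zero]
    exact hLv a b
  have hcd' : c ≠ 0 ∨ d ≠ 0 := by tauto
  -- move the second line along the first
  obtain ⟨t, ht⟩ : ∃ t : F, (a * c - μ * (b * d)) - t * (c * c - μ * (d * d)) ≠ 0 := by
    by_cases h0 : a * c - μ * (b * d) = 0
    · exact ⟨1, by rw [h0, zero_sub, one_mul]; exact neg_ne_zero.mpr (norm_ne hs hcd')⟩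
    · exact ⟨0, by rwa [zero_mul, sub_zero]⟩
  set e₂ := e + t • v with he₂
  have hevJ : f e (J *ᵥ v) = 0 := by rw [symm_J hs v e, h2]
  have he₂i : f e₂ (J *ᵥ e₂) = 0 := by
    simp [he₂, mulVec_add, mulVec_smul, hb.add_left, hb.add_right, hb.smul_left, hb.smul_right,
      he, hv, h2, hevJ]
  have h1' : f v e₂ = 1 := by
    rw [he₂, hb.add_right, hb.smul_right, hs.symp.alternating, h1]; ring
  have he₂0 : e₂ ≠ 0 := fun h => zero_ne_one (by rw [← h1', h, form_zero_right hb])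
  have h2' : f v (J *ᵥ e₂) = 0 := by
    rw [he₂, mulVec_add, mulVec_smul, hb.add_right, hb.smul_right, h2, hv]; ring
  have he₂C : e₂ ∈ centres f M :=
    centres_step hs hn h5 hM hvC he₂i (by rw [h1']; exact one_ne_zero) h2'
  have hy := hLv (a - t * c) (b - t * d)
  have hz := hline he₂0 he₂i he₂C c d
  have := add_smul_mem_centres hs.symp hy hz ?_ 1
  · rw [one_smul] at this
    convert this using 1
    rw [hx, he₂, mulVec_add, mulVec_smul]
    module
  · have h3 : f (J *ᵥ v) e = 0 := by rw [hs.skew, h2, neg_zero]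
    have h4 : f (J *ᵥ v) (J *ᵥ e) = -μ := by rw [f_JJ hs, h1, mul_one]
    have h5' : f (J *ᵥ v) v = 0 := by rw [hs.symp.skew, hv, neg_zero]
    simp only [he₂, mulVec_add, mulVec_smul, hb.add_left, hb.add_right, hb.smul_left,
      hb.smul_right, hs.symp.alternating, h1, h2, h3, h4, h5', hv]
    intro h0
    apply ht
    linear_combination h0

end Cfsg.Agent.Sp4Odd.UnitCore
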